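import Groth.Prelude.Def_SchFin2
import Mathlib

/-!
# Connectedness of finite ringed posets through idempotents
-/

set_option autoImplicit false

universe u

open SchFin

namespace Groth.Agent.SchFinLib

theorem connectedSpace_iff_idempotent (R : Type u) [CommRing R] :
    ConnectedSpace (PrimeSpectrum R) ↔ Nontrivial R ∧ ∀ e : R, IsIdempotentElem e → e = 0 ∨ e = 1 := by
  constructor
  · intro h
    haveI : Nonempty (PrimeSpectrum R) := h.toNonempty
    refine ⟨PrimeSpectrum.nonempty_iff_nontrivial.mp inferInstance, fun e he => ?_⟩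
    have hc : IsClopen ((PrimeSpectrum.basicOpen e : Set (PrimeSpectrum R))) :=
      PrimeSpectrum.isClopen_iff.mpr ⟨e, he, rfl⟩
    rcases isClopen_iff.mp hc with h0 | h1
    · left
      have : IsNilpotent e := PrimeSpectrum.basicOpen_eq_bot_iff e |>.mp (SetLike.coe_injective (by simpa using h0))
      exact he.eq_zero_of_isNilpotent this
    · right
      have hu : IsUnit e := by
        by_contra hu
        obtain ⟨m, hm, hem⟩ := exists_max_ideal_of_mem_nonunits (a := e) hu
        have hm' : (⟨m, hm.isPrime⟩ : PrimeSpectrum R) ∈ (PrimeSpectrum.basicOpen e : Set (PrimeSpectrum R)) := h1 ▸ Set.mem_univ _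
        exact hm' hem
      exact (IsIdempotentElem.iff_eq_one_of_isUnit hu).mp he
  · rintro ⟨hn, h⟩
    haveI := hn
    haveI : PreconnectedSpace (PrimeSpectrum R) := preconnectedSpace_iff_clopen.mpr fun s hs => by
      obtain ⟨e, he, rfl⟩ := PrimeSpectrum.isClopen_iff.mp hs
      rcases h e he with rfl | rfl
      · left; simp
      · right; simp
    exact { toNonempty := inferInstance }

variable {X : RSpace.{u}}

lemma eq_of_eqvGen {α : Type*} (f : X.pt → α) (h : ∀ a b : X.pt, a ≤ b → f a = f b) {p q : X.pt}
    (hpq : Relation.EqvGen (fun a b : X.pt => a ≤ b) p q) : f p = f q := by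
  induction hpq with
  | rel a b hab => exact h a b hab
  | refl a => rfl
  | symm a b _ ih => exact ih.symm
  | trans a b c _ _ ih₁ ih₂ => exact ih₁.trans ih₂

theorem nontrivial_of_pwConnected (h : X.IsPwConnected) (p : X.pt) : Nontrivial (X.ring p) :=
  ((connectedSpace_iff_idempotent _).mp (h p)).1

theorem wellConnected_iff : X.IsWellConnected ↔ (X.IsTopConnected ∧ X.IsPwConnected) := by
  classical
  constructor
  · rintro ⟨hc, hp⟩
    obtain ⟨hn, hi⟩ := (connectedSpace_iff_idempotent _).mp hc
    refine ⟨⟨?_, fun p q => ?_⟩, hp⟩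
    · by_contra hempty
      rw [not_nonempty_iff] at hempty
      obtain ⟨a, b, hab⟩ := hn.exists_pair_ne
      exact hab (Subtype.ext (funext fun q => (hempty.false q.1).elim))
    · let r := Relation.EqvGen (fun a b : X.pt => a ≤ b)
      let e : X.sectRing Set.univ := ⟨fun q => if r p q.1 then 1 else 0, fun a b h => by
        by_cases ha : r p a.1
        · have hb : r p b.1 := Relation.EqvGen.trans _ _ _ ha (Relation.EqvGen.rel _ _ h)
          simp only [ha, hb, if_true, map_one]
        · have hb : ¬ r p b.1 := fun hb => ha (Relation.EqvGen.trans _ _ _ hb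
            (Relation.EqvGen.symm _ _ (Relation.EqvGen.rel _ _ h)))
          simp only [ha, hb, if_false, map_zero]⟩
      have he : IsIdempotentElem e := Subtype.ext (funext fun a => by
        show (if r p a.1 then (1 : X.ring a.1) else 0) * (if r p a.1 then 1 else 0) = _
        split_ifs with ha <;> simp [e, ha])
      haveI := nontrivial_of_pwConnected hp p
      haveI := nontrivial_of_pwConnected hp q
      rcases hi e he with h0 | h1
      · have := congrFun (congrArg Subtype.val h0) ⟨p, trivial⟩
        simp [e, r, Relation.EqvGen.refl] at this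
      · have := congrFun (congrArg Subtype.val h1) ⟨q, trivial⟩
        by_contra hpq
        simp [e, r, hpq] at this
  · rintro ⟨⟨⟨p₀⟩, ht⟩, hp⟩
    refine ⟨(connectedSpace_iff_idempotent _).mpr ⟨?_, fun e he => ?_⟩, hp⟩
    · haveI := nontrivial_of_pwConnected hp p₀
      refine ⟨⟨0, 1, fun h => ?_⟩⟩
      exact zero_ne_one (congrFun (congrArg Subtype.val h) ⟨p₀, trivial⟩)
    · have h01 : ∀ p : X.pt, e.1 ⟨p, trivial⟩ = 0 ∨ e.1 ⟨p, trivial⟩ = 1 := fun p =>
        ((connectedSpace_iff_idempotent _).mp (hp p)).2 _ (congrFun (congrArg Subtype.val he) ⟨p, trivial⟩)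
      have hconst : ∀ a b : X.pt, (e.1 ⟨a, trivial⟩ = 0) = (e.1 ⟨b, trivial⟩ = 0) := fun a b =>
        eq_of_eqvGen (fun p : X.pt => (e.1 ⟨p, trivial⟩ = 0)) (fun a b hab => by
          haveI := nontrivial_of_pwConnected hp b
          have hr := e.2 ⟨a, trivial⟩ ⟨b, trivial⟩ hab
          refine propext ⟨fun h => by rw [← hr, h, map_zero], fun h => ?_⟩
          refine (h01 a).resolve_right fun h1 => ?_
          rw [h1, map_one, h] at hr
          exact one_ne_zero hr) (ht a b)
      by_cases h0 : e.1 ⟨p₀, trivial⟩ = 0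
      · exact Or.inl (Subtype.ext (funext fun q => (hconst p₀ q.1).mp h0))
      · exact Or.inr (Subtype.ext (funext fun q =>
          (h01 q.1).resolve_left fun h => h0 ((hconst p₀ q.1).mpr h)))

/-- Morphisms of constant algebras come from maps of sets. -/
theorem exists_map_of_const (hW : X.IsWellConnected) (F E : Type) [Finite F] [Finite E]
    (f : ∀ p : X.pt, (F → X.ring p) →ₐ[X.ring p] (E → X.ring p))
    (hf : ∀ (p q : X.pt) (h : p ≤ q) (g : F → X.ring p) (e : E),
      X.res h (f p g e) = f q (fun i => X.res h (g i)) e) :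
    ∃ φ : E → F, ∀ (p : X.pt) (g : F → X.ring p) (e : E), f p g e = g (φ e) := by
  classical
  haveI := Fintype.ofFinite F
  obtain ⟨⟨⟨p₀⟩, ht⟩, hp⟩ := wellConnected_iff.mp hW
  let δ (p : X.pt) (i : F) : F → X.ring p := Pi.single i 1
  let c (p : X.pt) (i : F) (e : E) : X.ring p := f p (δ p i) e
  have hsum : ∀ (p : X.pt) (g : F → X.ring p) (e : E), f p g e = ∑ i, g i * c p i e := fun p g e => by
    conv_lhs => rw [show g = ∑ i, g i • δ p i from funext fun j => by simp [δ, Finset.sum_apply, Pi.single_apply]]
    simp [map_sum, Finset.sum_apply, c]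
  have hid : ∀ p i e, c p i e = 0 ∨ c p i e = 1 := fun p i e => by
    refine ((connectedSpace_iff_idempotent _).mp (hp p)).2 _ ?_
    show f p (δ p i) e * f p (δ p i) e = _
    rw [← Pi.mul_apply, ← map_mul, show δ p i * δ p i = δ p i from funext fun j => by by_cases hj : j = i <;> simp [δ, hj]]
  have hex : ∀ p e, ∃ i, c p i e = 1 := fun p e => by
    haveI := nontrivial_of_pwConnected hp p
    by_contra hne
    push Not at hne
    have h := hsum p 1 e
    rw [map_one] at h
    simp [fun i => (hid p i e).resolve_right (hne i)] at h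
  have huniq : ∀ p e i j, c p i e = 1 → c p j e = 1 → i = j := fun p e i j hi hj => by
    haveI := nontrivial_of_pwConnected hp p
    by_contra hij
    have : f p (δ p i * δ p j) e = 1 := by rw [map_mul, Pi.mul_apply]; show c p i e * c p j e = 1; rw [hi, hj, one_mul]
    rw [show δ p i * δ p j = 0 from funext fun k => by
      simp only [δ, Pi.mul_apply, Pi.single_apply]; split_ifs <;> simp_all, map_zero] at this
    exact zero_ne_one this
  choose φ hφ using hex
  refine ⟨φ p₀, fun p g e => ?_⟩
  have hconst : φ p e = φ p₀ e := eq_of_eqvGen (fun p : X.pt => φ p e) (fun a b hab => by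
    refine huniq b e _ _ ?_ (hφ b e)
    have h := hf a b hab (δ a (φ a e)) e
    show f b (δ b (φ a e)) e = 1
    have hδ : (fun i => X.res hab (δ a (φ a e) i)) = δ b (φ a e) := funext fun i => by
      simp only [δ, Pi.single_apply]; split_ifs <;> simp
    rw [hδ, show f a (δ a (φ a e)) e = 1 from hφ a e, map_one] at h
    exact h.symm) (ht p p₀)
  rw [hsum, Finset.sum_eq_single (φ p e), hφ, mul_one, hconst]
  · intro i _ hi
    rw [(hid p i e).resolve_right fun h => hi (huniq p e _ _ h (hφ p e)), mul_zero]
  · simp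

end Groth.Agent.SchFinLib
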