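import Groth.Agent.SchFinLib.Points

/-!
# Schematic points and geometric points
-/

set_option autoImplicit false
set_option linter.unusedSectionVars false

universe u

open SchFin TensorProduct

namespace Groth.Agent.SchFinLib

variable {X : RSpace.{u}}

lemma comap_res_comp {p q s : X.pt} (h : p ≤ q) (h' : q ≤ s) (t : PrimeSpectrum (X.ring s)) :
    PrimeSpectrum.comap (X.res h) (PrimeSpectrum.comap (X.res h') t) =
      PrimeSpectrum.comap (X.res (h.trans h')) t := by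
  ext a
  simp only [PrimeSpectrum.comap_asIdeal, Ideal.mem_comap, X.res_comp]

lemma comap_res_self (p : X.pt) (t : PrimeSpectrum (X.ring p)) :
    PrimeSpectrum.comap (X.res (le_refl p)) t = t := by
  ext a
  simp only [PrimeSpectrum.comap_asIdeal, Ideal.mem_comap, X.res_self]

lemma pairRel_up {x z : X.pt} (h : x ≤ z) (r : PrimeSpectrum (X.ring z)) :
    X.PairRel ⟨x, PrimeSpectrum.comap (X.res h) r⟩ ⟨z, r⟩ :=
  ⟨z, h, le_refl z, r, rfl, comap_res_self z r⟩

/-- Under the standing hypotheses, relatedness of pairs is an equivalence relation. -/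
theorem pairRel_equivalence (hX : X.IsSchematic)
    (hff : ∀ s a b : X.pt, s ≤ a → s ≤ b → (X.up a ∩ X.up b).Nonempty →
      Module.FaithfullyFlat (X.sectRing (X.up a ∩ X.up b)) ((q : ↥(X.up a ∩ X.up b)) → X.ring q.1)) :
    Equivalence X.PairRel where
  refl a := ⟨a.1, le_refl _, le_refl _, a.2, comap_res_self _ _, comap_res_self _ _⟩
  symm := fun ⟨z, hx, hy, r, h1, h2⟩ => ⟨z, hy, hx, r, h2, h1⟩
  trans := by
    rintro a b c ⟨z, ha, hb, r, hra, hrb⟩ ⟨w, hb', hc, r', hr'b, hr'c⟩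
    obtain ⟨v, hz, hw, t, htz, htw⟩ := pairRel_of_comap_eq hX hff hb hb' r r' (hrb.trans hr'b.symm)
    change z ≤ v at hz
    change w ≤ v at hw
    change PrimeSpectrum.comap (X.res hz) t = r at htz
    change PrimeSpectrum.comap (X.res hw) t = r' at htw
    refine ⟨v, ha.trans hz, hc.trans hw, t, ?_, ?_⟩
    · rw [← comap_res_comp ha hz, htz, hra]
    · rw [← comap_res_comp hc hw, htw, hr'c]

/-- Each schematic point has a unique pair at a greatest point. -/
theorem existsUnique_greatest (hX : X.IsSchematic)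
    (hff : ∀ s a b : X.pt, s ≤ a → s ≤ b → (X.up a ∩ X.up b).Nonempty →
      Module.FaithfullyFlat (X.sectRing (X.up a ∩ X.up b)) ((q : ↥(X.up a ∩ X.up b)) → X.ring q.1))
    (c : X.SchPt) :
    ∃! a : X.Pair, Quot.mk X.PairRel a = c ∧ ∀ b : X.Pair, Quot.mk X.PairRel b = c → b.1 ≤ a.1 := by
  have he := pairRel_equivalence hX hff
  have hmk : ∀ a b : X.Pair, Quot.mk X.PairRel a = Quot.mk X.PairRel b → X.PairRel a b := fun a b h =>
    he.eqvGen_iff.mp (Quot.eqvGen_exact h)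
  obtain ⟨a₀, rfl⟩ := Quot.exists_rep c
  let S : Set X.pt := {p | ∃ P, Quot.mk X.PairRel ⟨p, P⟩ = Quot.mk X.PairRel a₀}
  obtain ⟨m, ⟨P, hP⟩, hmax⟩ := (Set.toFinite S).exists_maximal ⟨a₀.1, a₀.2, rfl⟩
  have hgr : ∀ b : X.Pair, Quot.mk X.PairRel b = Quot.mk X.PairRel a₀ → b.1 ≤ m := fun b hb => by
    obtain ⟨z, hm, hbz, r, hr, -⟩ := hmk ⟨m, P⟩ b (hP.trans hb.symm)
    change m ≤ z at hm
    have hz : z ∈ S := ⟨r, by
      rw [← hP, ← show PrimeSpectrum.comap (X.res hm) r = P from hr]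
      exact (Quot.sound (pairRel_up hm r)).symm⟩
    exact hbz.trans (hmax hz hm)
  refine ⟨⟨m, P⟩, ⟨hP, hgr⟩, ?_⟩
  rintro ⟨m', P'⟩ ⟨hP', hgr'⟩
  obtain rfl : m' = m := le_antisymm (hgr _ hP') (hgr' _ hP)
  obtain ⟨z, h1, h2, r, hr1, hr2⟩ := hmk _ _ (hP'.trans hP.symm)
  exact congrArg _ (hr1.symm.trans hr2)

/-- No prime at a larger point lies over the kernel of a geometric point. -/
theorem geomPt_not_over {Ω : Type u} [Field Ω] [IsAlgClosed Ω] (ξ : GeomPt X Ω) {x' : X.pt}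
    (hx : ξ.base < x') (P : Ideal (X.ring x')) [hPp : P.IsPrime] :
    P.comap (X.res hx.le) ≠ RingHom.ker ξ.toField := by
  intro h
  let f := ξ.hom
  let u0 : (RSpace.point Ω).pt := PUnit.unit
  letI : Algebra (X.ring ξ.base) (X.ring x') := (X.res hx.le).toAlgebra
  letI : Algebra (X.ring ξ.base) Ω := ξ.toField.toAlgebra
  let φ := Coef.ofHom f ξ.base (f.wedge u0 ξ.base) (f.wedge_subset_pre u0 ξ.base)
  obtain ⟨e, he, -⟩ := bc_tensor (φ := φ) (RSpace.point Ω).str (f.subTgt u0 hx.le) rfl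
    (ξ.isSchematic.2.2 0 u0 u0 le_rfl ξ.base x' hx.le).2
  let uu : ↥(f.wedge u0 ξ.base) := ⟨u0, le_rfl, le_rfl⟩
  let ρ : H φ (RSpace.point Ω).str 0 →ₗ[X.ring ξ.base] Ω :=
    { toFun := fun c => (toSect φ (RSpace.point Ω).str c).1 uu
      map_add' := fun a b => by rw [map_add]; rfl
      map_smul' := fun a c => by
        rw [toSect_smul]
        show (ξ.toField (X.res _ a)) * _ = ξ.toField a * _
        rw [X.res_self] }
  have hρ : Function.Surjective ρ := fun b => by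
    obtain ⟨c, hc⟩ := (toSect_bijective φ (RSpace.point Ω).str).2 ⟨fun _ => b, fun _ _ _ => rfl⟩
    exact ⟨c, congrFun (congrArg Subtype.val hc) uu⟩
  haveI : IsEmpty ↥(f.wedge u0 x') := ⟨fun q => hx.not_ge q.2.2⟩
  haveI : Subsingleton (X.ring x' ⊗[X.ring ξ.base] H φ (RSpace.point Ω).str 0) :=
    ⟨fun a b => he.1 (Subtype.ext (funext fun q => isEmptyElim q))⟩
  haveI : Subsingleton (X.ring x' ⊗[X.ring ξ.base] Ω) :=
    (LinearMap.lTensor_surjective (X.ring x') hρ).subsingleton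
  obtain ⟨T, -, -⟩ := exists_prime_tensor (R := X.ring ξ.base) (A := X.ring x') (B := Ω) ⟨P, hPp⟩ ⟨⊥, Ideal.isPrime_bot⟩
    (PrimeSpectrum.ext (h.trans (RingHom.ker_eq_comap_bot _)))
  exact T.isPrime.ne_top (Subsingleton.elim _ _)

end Groth.Agent.SchFinLib
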