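import Mathlib

/-!
# Descent along a finite family of rings which is jointly faithfully flat
-/

set_option autoImplicit false
set_option linter.unusedSectionVars false

universe u

open TensorProduct

namespace Groth.Agent.SchFinLib

variable {R : Type u} [CommRing R] {ι : Type u} [Finite ι] (T : ι → Type u) [∀ i, CommRing (T i)]
  [∀ i, Algebra R (T i)]

/-- Bijectivity can be checked over a jointly faithfully flat family. -/
theorem bijective_of_lTensor_bijective [Module.FaithfullyFlat R (∀ i, T i)] {N N' : Type u} [AddCommGroup N]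
    [AddCommGroup N'] [Module R N] [Module R N'] (f : N →ₗ[R] N')
    (h : ∀ i, Function.Bijective (f.lTensor (T i))) : Function.Bijective f := by
  classical
  haveI := Fintype.ofFinite ι
  refine (Module.FaithfullyFlat.lTensor_bijective_iff_bijective R (∀ i, T i) f).mp ?_
  let e := TensorProduct.piLeft R N T
  let e' := TensorProduct.piLeft R N' T
  let P : (∀ i, T i ⊗[R] N) →ₗ[R] (∀ i, T i ⊗[R] N') := LinearMap.pi fun i => (f.lTensor (T i)).comp (LinearMap.proj i)
  have hP : Function.Bijective P := by
    refine ⟨fun a b hab => funext fun i => (h i).1 (congrFun hab i), fun b => ?_⟩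
    exact ⟨fun i => ((h i).2 (b i)).choose, funext fun i => ((h i).2 (b i)).choose_spec⟩
  have he : f.lTensor (∀ i, T i) = e'.symm.toLinearMap ∘ₗ P ∘ₗ e.toLinearMap := by
    refine TensorProduct.ext' fun t n => ?_
    refine e'.injective (funext fun i => ?_)
    simp [e, e', P]
  rw [he]
  exact e'.symm.bijective.comp (hP.comp e.bijective)

variable {N : Type u} [AddCommGroup N] [Module R N] (M : ι → Type u) [∀ i, AddCommGroup (M i)]
  [∀ i, Module (T i) (M i)] [∀ i, Module R (M i)] [∀ i, IsScalarTower R (T i) (M i)]
  (l : ∀ i, N →ₗ[R] M i)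

/-- Flatness descends along a jointly faithfully flat family. -/
theorem flat_descent [Module.FaithfullyFlat R (∀ i, T i)]
    (hβ : ∀ i, Function.Bijective ((l i).liftBaseChange (T i))) (h : ∀ i, Module.Flat (T i) (M i)) :
    Module.Flat R N := by
  classical
  haveI := Fintype.ofFinite ι
  letI : ∀ i, Algebra (∀ j, T j) (T i) := fun i => (Pi.evalAlgHom R T i).toAlgebra
  letI : ∀ i, Module (∀ j, T j) (M i) := fun i => Module.compHom (M i) (Pi.evalRingHom T i)
  haveI : ∀ i, IsScalarTower (∀ j, T j) (T i) (M i) := fun i => IsScalarTower.of_algebraMap_smul fun _ _ => rfl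
  haveI : ∀ i, IsScalarTower R (∀ j, T j) (M i) := fun i => IsScalarTower.of_algebraMap_smul fun r m => by
    show (algebraMap R (T i) r) • m = _
    rw [algebraMap_smul]
  haveI : ∀ i, Module.Flat (∀ j, T j) (M i) := fun i => by
    haveI : IsLocalization.Away (Pi.single i 1 : ∀ j, T j) (T i) := by
      refine IsLocalization.away_of_isIdempotentElem ?_ (RingHom.ker_evalRingHom _ _)
        ((Pi.evalRingHom T i).surjective)
      simp [IsIdempotentElem, ← Pi.single_mul_left]
    haveI : Module.Flat (∀ j, T j) (T i) := IsLocalization.flat (T i) (Submonoid.powers (Pi.single i 1 : ∀ j, T j))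
    exact Module.Flat.trans (∀ j, T j) (T i) (M i)
  haveI : Module.Flat (∀ j, T j) (∀ i, M i) :=
    Module.Flat.of_linearEquiv (DFinsupp.linearEquivFunOnFintype (R := ∀ j, T j) (M := M)).symm
  let lp : N →ₗ[R] ∀ i, M i := LinearMap.pi l
  let Φ := lp.liftBaseChange (∀ j, T j)
  have hΦ : Function.Bijective Φ := by
    let e := TensorProduct.piLeft R N T
    have : (Φ : _ → _) = (fun (v : ∀ i, T i ⊗[R] N) i => (l i).liftBaseChange (T i) (v i)) ∘ e := by
      funext z
      induction z using TensorProduct.induction_on with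
      | zero => simp [Φ]; rfl
      | add a b ha hb =>
        funext i
        simp only [Function.comp_apply, map_add, Pi.add_apply] at ha hb ⊢
        rw [congrFun ha i, congrFun hb i]
      | tmul t n =>
        funext i
        simp [Φ, lp, e]
    rw [this]
    refine Function.Bijective.comp ?_ e.bijective
    exact ⟨fun a b hab => funext fun i => (hβ i).1 (congrFun hab i),
      fun b => ⟨fun i => ((hβ i).2 (b i)).choose, funext fun i => ((hβ i).2 (b i)).choose_spec⟩⟩
  haveI : Module.Flat (∀ j, T j) ((∀ j, T j) ⊗[R] N) := Module.Flat.of_linearEquiv (LinearEquiv.ofBijective Φ hΦ)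
  exact Module.Flat.of_flat_tensorProduct R N (∀ j, T j)

/-- Finiteness descends along a jointly faithfully flat family. -/
theorem finite_descent [Module.FaithfullyFlat R (∀ i, T i)]
    (hβ : ∀ i, Function.Bijective ((l i).liftBaseChange (T i))) (h : ∀ i, Module.Finite (T i) (M i)) :
    Module.Finite R N := by
  classical
  haveI := Fintype.ofFinite ι
  letI : ∀ i, Algebra (∀ j, T j) (T i) := fun i => (Pi.evalAlgHom R T i).toAlgebra
  letI : ∀ i, Module (∀ j, T j) (M i) := fun i => Module.compHom (M i) (Pi.evalRingHom T i)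
  haveI : ∀ i, IsScalarTower (∀ j, T j) (T i) (M i) := fun i => IsScalarTower.of_algebraMap_smul fun _ _ => rfl
  haveI : ∀ i, IsScalarTower R (∀ j, T j) (M i) := fun i => IsScalarTower.of_algebraMap_smul fun r m => by
    show (algebraMap R (T i) r) • m = _
    rw [algebraMap_smul]
  haveI : ∀ i, Module.Finite (∀ j, T j) (M i) := fun i => by
    haveI : Module.Finite (∀ j, T j) (T i) :=
      Module.Finite.of_surjective (Algebra.linearMap (∀ j, T j) (T i)) ((Pi.evalRingHom T i).surjective)
    exact Module.Finite.trans (T i) (M i)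
  haveI : Module.Finite (∀ j, T j) (∀ i, M i) :=
    Module.Finite.equiv (DFinsupp.linearEquivFunOnFintype (R := ∀ j, T j) (M := M))
  let lp : N →ₗ[R] ∀ i, M i := LinearMap.pi l
  let Φ := lp.liftBaseChange (∀ j, T j)
  have hΦ : Function.Bijective Φ := by
    let e := TensorProduct.piLeft R N T
    have : (Φ : _ → _) = (fun (v : ∀ i, T i ⊗[R] N) i => (l i).liftBaseChange (T i) (v i)) ∘ e := by
      funext z
      induction z using TensorProduct.induction_on with
      | zero => simp [Φ]; rfl
      | add a b ha hb =>
        funext i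
        simp only [Function.comp_apply, map_add, Pi.add_apply] at ha hb ⊢
        rw [congrFun ha i, congrFun hb i]
      | tmul t n =>
        funext i
        simp [Φ, lp, e]
    rw [this]
    refine Function.Bijective.comp ?_ e.bijective
    exact ⟨fun a b hab => funext fun i => (hβ i).1 (congrFun hab i),
      fun b => ⟨fun i => ((hβ i).2 (b i)).choose, funext fun i => ((hβ i).2 (b i)).choose_spec⟩⟩
  haveI : Module.Finite (∀ j, T j) ((∀ j, T j) ⊗[R] N) := Module.Finite.equiv (LinearEquiv.ofBijective Φ hΦ).symm
  exact Module.Finite.of_finite_tensorProduct_of_faithfullyFlat (∀ j, T j)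

end Groth.Agent.SchFinLib

namespace Groth.Agent.SchFinLib

variable {R : Type u} [CommRing R] {ι : Type u} [Finite ι] (T : ι → Type u) [∀ i, CommRing (T i)]
  [∀ i, Algebra R (T i)] {N : Type u} [CommRing N] [Algebra R N] (A : ι → Type u) [∀ i, CommRing (A i)]
  [∀ i, Algebra (T i) (A i)] [∀ i, Algebra R (A i)] [∀ i, IsScalarTower R (T i) (A i)]
  (l : ∀ i, N →ₐ[R] A i)

/-- Étaleness descends along a jointly faithfully flat family. -/
theorem etale_descent [Module.FaithfullyFlat R (∀ i, T i)]
    (hβ : ∀ i, Function.Bijective ((l i).toLinearMap.liftBaseChange (T i)))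
    (h : ∀ i, Algebra.Etale (T i) (A i)) : Algebra.Etale R N := by
  classical
  haveI := Fintype.ofFinite ι
  letI : ∀ i, Algebra (∀ j, T j) (T i) := fun i => (Pi.evalAlgHom R T i).toAlgebra
  letI : ∀ i, Algebra (∀ j, T j) (A i) := fun i => ((algebraMap (T i) (A i)).comp (Pi.evalRingHom T i)).toAlgebra
  haveI : ∀ i, IsScalarTower (∀ j, T j) (T i) (A i) := fun i => IsScalarTower.of_algebraMap_eq fun _ => rfl
  haveI : ∀ i, IsScalarTower R (∀ j, T j) (A i) := fun i => IsScalarTower.of_algebraMap_eq fun r => by
    show _ = algebraMap (T i) (A i) (algebraMap R (T i) r)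
    rw [← IsScalarTower.algebraMap_apply]
  haveI : ∀ i, Algebra.Etale (∀ j, T j) (A i) := fun i => by
    haveI : IsLocalization.Away (Pi.single i 1 : ∀ j, T j) (T i) := by
      refine IsLocalization.away_of_isIdempotentElem ?_ (RingHom.ker_evalRingHom _ _)
        ((Pi.evalRingHom T i).surjective)
      simp [IsIdempotentElem, ← Pi.single_mul_left]
    haveI : Algebra.Etale (∀ j, T j) (T i) := Algebra.Etale.of_isLocalizationAway (Pi.single i 1 : ∀ j, T j)
    exact Algebra.Etale.comp (∀ j, T j) (T i) (A i)
  letI iA : Algebra (∀ j, T j) (∀ i, A i) := Pi.algebra ι A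
  let lp : N →ₐ[R] ∀ i, A i := AlgHom.ofLinearMap (LinearMap.pi fun i => (l i).toLinearMap)
    (funext fun i => map_one (l i)) (fun a b => funext fun i => map_mul (l i) a b)
  let Φ : (∀ j, T j) ⊗[R] N →ₐ[∀ j, T j] ∀ i, A i :=
    Algebra.TensorProduct.lift (Algebra.ofId _ _) lp fun _ _ => Commute.all _ _
  have hΦ : Function.Bijective Φ := by
    let e := TensorProduct.piLeft R N T
    have : (Φ : _ → _) = (fun (v : ∀ i, T i ⊗[R] N) i => (l i).toLinearMap.liftBaseChange (T i) (v i)) ∘ e := by
      funext z
      induction z using TensorProduct.induction_on with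
      | zero => funext i; simp
      | add a b ha hb =>
        funext i
        simp only [Function.comp_apply, map_add, Pi.add_apply] at ha hb ⊢
        rw [congrFun ha i, congrFun hb i]
      | tmul t n =>
        funext i
        simp [Φ, lp, e, Algebra.smul_def]
        rfl
    rw [this]
    refine Function.Bijective.comp ?_ e.bijective
    exact ⟨fun a b hab => funext fun i => (hβ i).1 (congrFun hab i),
      fun b => ⟨fun i => ((hβ i).2 (b i)).choose, funext fun i => ((hβ i).2 (b i)).choose_spec⟩⟩
  haveI : Algebra.Etale (∀ j, T j) (∀ i, A i) :=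
    { formallyEtale := (Algebra.FormallyEtale.pi_iff (R := ∀ j, T j) A).mpr fun i => inferInstance
      finitePresentation := Algebra.FinitePresentation.pi (R := ∀ j, T j) A }
  haveI : Algebra.Etale (∀ j, T j) ((∀ j, T j) ⊗[R] N) := Algebra.Etale.of_equiv (AlgEquiv.ofBijective Φ hΦ).symm
  exact Algebra.Etale.of_etale_tensorProduct_of_faithfullyFlat (∀ j, T j)

end Groth.Agent.SchFinLib
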