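import Groth.Agent.SchFinLib.Base
import Groth.Agent.SchFinLib.PiDescent

/-!
# Quasi-coherent modules and algebras over affine open subsets
-/

set_option autoImplicit false
set_option linter.unusedSectionVars false

universe u

open SchFin TensorProduct

namespace Groth.Agent.SchFinLib

variable {X : RSpace.{u}} (U : Set X.pt)

/-- The evaluation algebra structure on the ring of a point of a subset. -/
@[reducible] noncomputable def evAlg (q : U) : Algebra (X.sectRing U) (X.ring q.1) := (X.evalRing U q).toAlgebra

attribute [local instance] evAlg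

/-- The hypothesis of joint faithful flatness in the product algebra structure. -/
theorem faithfullyFlat_pi (hff : Module.FaithfullyFlat (X.sectRing U) ((q : ↥U) → X.ring q.1)) :
    @Module.FaithfullyFlat (X.sectRing U) ((q : ↥U) → X.ring q.1) _ _ (Pi.module U (fun q => X.ring q.1) (X.sectRing U)) := by
  convert hff using 1

/-- Sections over an affine subset generate: the counit is bijective. -/
theorem bijective_eval (hUa : (X.restrict U).IsAffine) (M : OMod X) (hM : M.IsQcoh) (q : U)
    [Module (X.sectRing U) (M.carrier q.1)] [IsScalarTower (X.sectRing U) (X.ring q.1) (M.carrier q.1)]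
    (l : M.sect U →ₗ[X.sectRing U] M.carrier q.1) (hl : ∀ s, l s = s.1 q) :
    Function.Bijective (l.liftBaseChange (X.ring q.1)) := by
  let X' := X.restrict U
  let M' := M.restrict U
  let R1 := X'.sectRing Set.univ
  let q' : ↥(Set.univ : Set X'.pt) := ⟨q, trivial⟩
  letI iA : Algebra R1 (X'.ring q'.1) := (X'.evalRing Set.univ q').toAlgebra
  letI iM : Module R1 (M'.carrier q'.1) := Module.compHom _ (algebraMap R1 (X'.ring q'.1))
  haveI : IsScalarTower R1 (X'.ring q'.1) (M'.carrier q'.1) := IsScalarTower.of_algebraMap_smul fun _ _ => rfl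
  let f1 : M'.sect Set.univ →ₗ[R1] M'.carrier q'.1 :=
    { toFun := fun s => s.1 q', map_add' := fun _ _ => rfl, map_smul' := fun _ _ => rfl }
  have hb : IsBaseChange (X'.ring q'.1) f1 :=
    (isBCAlong_iff (R := R1) (S := X'.ring q'.1) rfl (M'.evalMod Set.univ q') f1 fun _ => rfl).mp
      (hUa.2.2.1 M' (fun a b h => hM a.1 b.1 h) q)
  letI : Algebra R1 (X.ring q.1) := iA
  let eN' : M'.sect Set.univ →+ M.sect U :=
    { toFun := fun s => ⟨fun a => s.1 ⟨a, trivial⟩, fun a b h => s.2 ⟨a, trivial⟩ ⟨b, trivial⟩ h⟩
      map_zero' := rfl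
      map_add' := fun _ _ => rfl }
  let Ψ : X.ring q.1 ⊗[R1] M'.sect Set.univ →+ X.ring q.1 ⊗[X.sectRing U] M.sect U :=
    TensorProduct.liftAddHom
      { toFun := fun a =>
          { toFun := fun n => a ⊗ₜ eN' n
            map_zero' := by rw [map_zero, tmul_zero]
            map_add' := fun n n' => by rw [map_add, tmul_add] }
        map_zero' := by ext n; exact zero_tmul _ _
        map_add' := fun a b => by ext n; exact add_tmul _ _ _ }
      fun r a n => by
        let r0 : X.sectRing U := ⟨fun a => r.1 ⟨a, trivial⟩, fun a b h => r.2 ⟨a, trivial⟩ ⟨b, trivial⟩ h⟩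
        show (r • a) ⊗ₜ eN' n = a ⊗ₜ eN' (r • n)
        have e1 : r • a = r0 • a := rfl
        have e2 : eN' (r • n) = r0 • eN' n := rfl
        rw [e1, e2, TensorProduct.smul_tmul]
  have hΨ : Function.Surjective Ψ := fun z => by
    induction z using TensorProduct.induction_on with
    | zero => exact ⟨0, map_zero _⟩
    | add a b ha hb =>
      obtain ⟨a', rfl⟩ := ha
      obtain ⟨b', rfl⟩ := hb
      exact ⟨a' + b', map_add _ _ _⟩
    | tmul a n =>
      exact ⟨a ⊗ₜ ⟨fun a => n.1 a.1, fun a b h => n.2 a.1 b.1 h⟩, rfl⟩
  have hcomp : ∀ z, l.liftBaseChange (X.ring q.1) (Ψ z) = hb.equiv z := fun z => by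
    induction z using TensorProduct.induction_on with
    | zero => simp only [map_zero]; rfl
    | add a b ha hb => simp only [map_add, ha, hb]; rfl
    | tmul a n =>
      rw [hb.equiv_tmul]
      show l.liftBaseChange (X.ring q.1) (a ⊗ₜ eN' n) = _
      rw [LinearMap.liftBaseChange_tmul, hl]
      rfl
  refine ⟨fun z z' h => ?_, fun m => ⟨Ψ (hb.equiv.symm m), by rw [hcomp, LinearEquiv.apply_symm_apply]⟩⟩
  obtain ⟨w, rfl⟩ := hΨ z
  obtain ⟨w', rfl⟩ := hΨ z'
  rw [hcomp, hcomp] at h
  rw [hb.equiv.injective h]

/-- Sections over an affine subset above a point are the base change from the point. -/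
theorem bc_resSect (hUa : (X.restrict U).IsAffine)
    (hff : Module.FaithfullyFlat (X.sectRing U) ((q : ↥U) → X.ring q.1)) {x : X.pt} (hU : U ⊆ X.up x)
    (M : OMod X) (hM : M.IsQcoh) : IsBCAlong (X.resSect x U hU) (M.resSect x U hU) := by
  haveI := faithfullyFlat_pi U hff
  letI : Algebra (X.ring x) (X.sectRing U) := (X.resSect x U hU).toAlgebra
  letI : Module (X.ring x) (M.sect U) := Module.compHom _ (algebraMap (X.ring x) (X.sectRing U))
  haveI : IsScalarTower (X.ring x) (X.sectRing U) (M.sect U) := IsScalarTower.of_algebraMap_smul fun _ _ => rfl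
  let f : M.carrier x →ₗ[X.ring x] M.sect U :=
    { toFun := M.resSect x U hU, map_add' := map_add _, map_smul' := fun a m => LinearMap.map_smulₛₗ _ a m }
  refine (isBCAlong_iff rfl (M.resSect x U hU) f fun _ => rfl).mpr ?_
  refine IsBaseChange.of_equiv (LinearEquiv.ofBijective (f.liftBaseChange (X.sectRing U)) ?_) fun m => (LinearMap.liftBaseChange_tmul _ _ _ _).trans (one_smul _ _)
  refine bijective_of_lTensor_bijective (fun q : U => X.ring q.1) _ fun q => ?_
  letI : Module (X.sectRing U) (M.carrier q.1) := Module.compHom _ (algebraMap (X.sectRing U) (X.ring q.1))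
  haveI : IsScalarTower (X.sectRing U) (X.ring q.1) (M.carrier q.1) := IsScalarTower.of_algebraMap_smul fun _ _ => rfl
  let l : M.sect U →ₗ[X.sectRing U] M.carrier q.1 :=
    { toFun := fun s => s.1 q, map_add' := fun _ _ => rfl, map_smul' := fun _ _ => rfl }
  have hl := bijective_eval U hUa M hM q l fun _ => rfl
  letI : Algebra (X.ring x) (X.ring q.1) := (X.res (hU q.2)).toAlgebra
  haveI : IsScalarTower (X.ring x) (X.sectRing U) (X.ring q.1) := IsScalarTower.of_algebraMap_eq fun _ => rfl
  letI : Module (X.ring x) (M.carrier q.1) := Module.compHom _ (algebraMap (X.ring x) (X.ring q.1))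
  haveI : IsScalarTower (X.ring x) (X.ring q.1) (M.carrier q.1) := IsScalarTower.of_algebraMap_smul fun _ _ => rfl
  let fq : M.carrier x →ₗ[X.ring x] M.carrier q.1 :=
    { toFun := M.res (hU q.2), map_add' := map_add _, map_smul' := fun a m => LinearMap.map_smulₛₗ _ a m }
  have hq : IsBaseChange (X.ring q.1) fq := (isBCAlong_iff rfl (M.res (hU q.2)) fq fun _ => rfl).mp (hM x q.1 (hU q.2))
  let c := TensorProduct.AlgebraTensorModule.cancelBaseChange (X.ring x) (X.sectRing U) (X.ring q.1) (X.ring q.1) (M.carrier x)
  have hcomp : ∀ z, l.liftBaseChange (X.ring q.1) ((f.liftBaseChange (X.sectRing U)).lTensor (X.ring q.1) z) =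
      hq.equiv (c z) := fun z => by
    induction z using TensorProduct.induction_on with
    | zero => simp only [map_zero]
    | add a b ha hb => simp only [map_add, ha, hb]
    | tmul a w =>
      induction w using TensorProduct.induction_on with
      | zero => simp only [tmul_zero, map_zero]
      | add w w' h h' => simp only [tmul_add, map_add, h, h']
      | tmul r m =>
        rw [LinearMap.lTensor_tmul, LinearMap.liftBaseChange_tmul, LinearMap.liftBaseChange_tmul, map_smul]
        simp only [c, TensorProduct.AlgebraTensorModule.cancelBaseChange_tmul, hq.equiv_tmul]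
        rw [← IsScalarTower.algebraMap_smul (X.ring q.1) r (l (f m)), smul_smul, Algebra.smul_def, mul_comm]
        rfl
  have hbij : Function.Bijective (fun z => l.liftBaseChange (X.ring q.1)
      ((f.liftBaseChange (X.sectRing U)).lTensor (X.ring q.1) z)) := by
    rw [funext hcomp]
    exact hq.equiv.bijective.comp c.bijective
  exact (Function.Bijective.of_comp_iff' hl _).mp hbij

variable (A : Alg X)

/-- The evaluation of sections of an algebra as a linear map. -/
noncomputable def algEval [Algebra (X.sectRing U) (A.total.sectRing U)]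
    (ha : algebraMap (X.sectRing U) (A.total.sectRing U) = A.sectMap U) (q : U)
    [Algebra (X.sectRing U) (A.carrier q.1)] [IsScalarTower (X.sectRing U) (X.ring q.1) (A.carrier q.1)] :
    A.total.sectRing U →ₐ[X.sectRing U] A.carrier q.1 :=
  { A.total.evalRing U q with
    commutes' := fun r => by
      rw [ha, IsScalarTower.algebraMap_apply (X.sectRing U) (X.ring q.1) (A.carrier q.1)]
      rfl }

/-- Sections of a quasi-coherent algebra over an affine subset generate. -/
theorem bijective_algEval (hUa : (X.restrict U).IsAffine) (hA : A.IsQcoh)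
    [Algebra (X.sectRing U) (A.total.sectRing U)]
    (ha : algebraMap (X.sectRing U) (A.total.sectRing U) = A.sectMap U) (q : U)
    [Algebra (X.sectRing U) (A.carrier q.1)] [IsScalarTower (X.sectRing U) (X.ring q.1) (A.carrier q.1)] :
    Function.Bijective ((algEval U A ha q).toLinearMap.liftBaseChange (X.ring q.1)) := by
  let e : A.toMod.sect U ≃ₗ[X.sectRing U] A.total.sectRing U :=
    { toFun := fun s => ⟨s.1, fun a b h => s.2 a b h⟩
      invFun := fun s => ⟨s.1, fun a b h => s.2 a b h⟩
      map_add' := fun _ _ => rfl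
      map_smul' := fun r s => by
        rw [RingHom.id_apply, Algebra.smul_def, ha]
        refine Subtype.ext (funext fun a => ?_)
        exact Algebra.smul_def (R := X.ring a.1) (A := A.carrier a.1) _ _
      left_inv := fun _ => rfl
      right_inv := fun _ => rfl }
  letI : Module (X.sectRing U) (A.toMod.carrier q.1) := (inferInstance : Module (X.sectRing U) (A.carrier q.1))
  haveI : IsScalarTower (X.sectRing U) (X.ring q.1) (A.toMod.carrier q.1) :=
    (inferInstance : IsScalarTower (X.sectRing U) (X.ring q.1) (A.carrier q.1))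
  let l : A.toMod.sect U →ₗ[X.sectRing U] A.toMod.carrier q.1 := (algEval U A ha q).toLinearMap.comp e.toLinearMap
  have hl := bijective_eval U hUa A.toMod hA q l fun _ => rfl
  have hfac : ((algEval U A ha q).toLinearMap.liftBaseChange (X.ring q.1) : _ → _) =
      (l.liftBaseChange (X.ring q.1)) ∘ (TensorProduct.congr (LinearEquiv.refl _ (X.ring q.1)) e).symm := by
    funext z
    induction z using TensorProduct.induction_on with
    | zero => simp; rfl
    | add a b ha hb => simp only [Function.comp_apply, map_add] at ha hb ⊢; rw [ha, hb]; rfl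
    | tmul a s => simp [l, TensorProduct.congr_symm_tmul]; rfl
  rw [hfac]
  exact hl.comp (LinearEquiv.bijective _)

end Groth.Agent.SchFinLib

namespace Groth.Agent.SchFinLib

variable {X : RSpace.{u}} (U : Set X.pt) (A : Alg X)

attribute [local instance] evAlg

/-- The composite of evaluations as an algebra structure. -/
@[reducible] noncomputable def sectAlgPt (q : U) : Algebra (X.sectRing U) (A.carrier q.1) :=
  ((algebraMap (X.ring q.1) (A.carrier q.1)).comp (X.evalRing U q)).toAlgebra

attribute [local instance] sectAlgPt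

instance (priority := low) sectAlgPt_tower (q : U) : IsScalarTower (X.sectRing U) (X.ring q.1) (A.carrier q.1) :=
  IsScalarTower.of_algebraMap_eq fun _ => rfl

theorem flat_iff (hUa : (X.restrict U).IsAffine) (hA : A.IsQcoh)
    (hφ : Module.FaithfullyFlat (X.sectRing U) ((q : ↥U) → X.ring q.1)) :
    (∀ q : X.pt, q ∈ U → Module.Flat (X.ring q) (A.carrier q)) ↔ (A.sectMap U).Flat := by
  letI := (A.sectMap U).toAlgebra
  haveI := faithfullyFlat_pi U hφ
  constructor
  · intro h
    exact flat_descent (fun q : U => X.ring q.1) (fun q : U => A.carrier q.1)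
      (fun q => (algEval U A rfl q).toLinearMap) (fun q => bijective_algEval U A hUa hA rfl q) fun q => h q.1 q.2
  · intro h q hq
    suffices ∀ q : U, Module.Flat (X.ring q.1) (A.carrier q.1) from this ⟨q, hq⟩
    clear hq q
    intro q
    haveI : Module.Flat (X.sectRing U) (A.total.sectRing U) := h
    exact Module.Flat.of_linearEquiv (M := X.ring q.1 ⊗[X.sectRing U] A.total.sectRing U)
      (LinearEquiv.ofBijective _ (bijective_algEval U A hUa hA rfl q)).symm

theorem finite_iff (hUa : (X.restrict U).IsAffine) (hA : A.IsQcoh)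
    (hφ : Module.FaithfullyFlat (X.sectRing U) ((q : ↥U) → X.ring q.1)) :
    (∀ q : X.pt, q ∈ U → Module.Finite (X.ring q) (A.carrier q)) ↔ (A.sectMap U).Finite := by
  letI := (A.sectMap U).toAlgebra
  haveI := faithfullyFlat_pi U hφ
  constructor
  · intro h
    exact finite_descent (fun q : U => X.ring q.1) (fun q : U => A.carrier q.1)
      (fun q => (algEval U A rfl q).toLinearMap) (fun q => bijective_algEval U A hUa hA rfl q) fun q => h q.1 q.2
  · intro h q hq
    suffices ∀ q : U, Module.Finite (X.ring q.1) (A.carrier q.1) from this ⟨q, hq⟩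
    clear hq q
    intro q
    haveI : Module.Finite (X.sectRing U) (A.total.sectRing U) := h
    exact Module.Finite.equiv (M := X.ring q.1 ⊗[X.sectRing U] A.total.sectRing U)
      (LinearEquiv.ofBijective _ (bijective_algEval U A hUa hA rfl q))

theorem etale_iff (hUa : (X.restrict U).IsAffine) (hA : A.IsQcoh)
    (hφ : Module.FaithfullyFlat (X.sectRing U) ((q : ↥U) → X.ring q.1)) :
    (∀ q : X.pt, q ∈ U → Algebra.Etale (X.ring q) (A.carrier q)) ↔ (A.sectMap U).Etale := by
  letI := (A.sectMap U).toAlgebra
  haveI := faithfullyFlat_pi U hφ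
  constructor
  · intro h
    exact RingHom.etale_algebraMap.mpr (etale_descent (fun q : U => X.ring q.1) (fun q : U => A.carrier q.1)
      (fun q => algEval U A rfl q) (fun q => bijective_algEval U A hUa hA rfl q) fun q => h q.1 q.2)
  · intro h q hq
    suffices ∀ q : U, Algebra.Etale (X.ring q.1) (A.carrier q.1) from this ⟨q, hq⟩
    clear hq q
    intro q
    haveI : Algebra.Etale (X.sectRing U) (A.total.sectRing U) := RingHom.etale_algebraMap.mp h
    let l := algEval U A rfl q
    let Φ : X.ring q.1 ⊗[X.sectRing U] A.total.sectRing U →ₐ[X.ring q.1] A.carrier q.1 :=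
      Algebra.TensorProduct.lift (Algebra.ofId _ _) l fun _ _ => Commute.all _ _
    have hΦ : (Φ : _ → _) = l.toLinearMap.liftBaseChange (X.ring q.1) := by
      funext z
      induction z using TensorProduct.induction_on with
      | zero => simp only [map_zero]
      | add a b ha hb => simp only [map_add, ha, hb]
      | tmul a n =>
        simp [Φ, LinearMap.liftBaseChange_tmul, Algebra.smul_def]
    exact Algebra.Etale.of_equiv (AlgEquiv.ofBijective Φ (by rw [hΦ]; exact bijective_algEval U A hUa hA rfl q))

theorem faithfullyFlat_iff (hUa : (X.restrict U).IsAffine) (hA : A.IsQcoh)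
    (hφ : Module.FaithfullyFlat (X.sectRing U) ((q : ↥U) → X.ring q.1)) :
    (∀ q : X.pt, q ∈ U → Module.FaithfullyFlat (X.ring q) (A.carrier q)) ↔ (A.sectMap U).FaithfullyFlat := by
  classical
  letI := (A.sectMap U).toAlgebra
  haveI := faithfullyFlat_pi U hφ
  constructor
  · intro h
    haveI : Module.Flat (X.sectRing U) (A.total.sectRing U) :=
      (flat_iff U A hUa hA hφ).mp fun q hq => (h q hq).toFlat
    refine RingHom.faithfullyFlat_algebraMap_iff.mpr (Module.FaithfullyFlat.of_comap_surjective fun P => ?_)
    obtain ⟨P', rfl⟩ := PrimeSpectrum.comap_surjective_of_faithfullyFlat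
      (A := X.sectRing U) (B := (q : ↥U) → X.ring q.1) P
    obtain ⟨q, p, rfl⟩ := PrimeSpectrum.exists_comap_evalRingHom_eq P'
    haveI := h q.1 q.2
    obtain ⟨t, rfl⟩ := PrimeSpectrum.comap_surjective_of_faithfullyFlat (A := X.ring q.1) (B := A.carrier q.1) p
    exact ⟨PrimeSpectrum.comap (A.total.evalRing U q) t, rfl⟩
  · intro h q hq
    suffices ∀ q : U, Module.FaithfullyFlat (X.ring q.1) (A.carrier q.1) from this ⟨q, hq⟩
    clear hq q
    intro q
    haveI : Module.FaithfullyFlat (X.sectRing U) (A.total.sectRing U) := RingHom.faithfullyFlat_algebraMap_iff.mp h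
    exact Module.FaithfullyFlat.of_linearEquiv (R := X.ring q.1) (M := X.ring q.1 ⊗[X.sectRing U] A.total.sectRing U) (N := A.carrier q)
      (LinearEquiv.ofBijective _ (bijective_algEval U A hUa hA rfl q)).symm

end Groth.Agent.SchFinLib
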