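import Groth.Agent.SchFinLib.Ker

/-!
# Pushouts of étale covers
-/

set_option autoImplicit false
set_option linter.unusedSectionVars false

universe u

open SchFin TensorProduct CategoryTheory CategoryTheory.Limits

namespace Groth.Agent.SchFinLib

variable {X : RSpace.{u}} {A B C : FEt X} (f : A ⟶ B) (g : A ⟶ C)

/-- Restriction of the target, seen over the source. -/
noncomputable def cR {A B : FEt X} (f : A ⟶ B) {p q : X.pt} (h : p ≤ q) : Cod f p →+* Cod f q := B.obj.res h

/-- The identity, seen over the source. -/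
def toC {A B : FEt X} (f : A ⟶ B) (p : X.pt) (b : B.obj.carrier p) : Cod f p := b

/-- Restriction to a tensor product at a larger point. -/
noncomputable def pushRes {p q : X.pt} (h : p ≤ q) :
    Cod f p ⊗[A.obj.carrier p] Cod g p →+* Cod f q ⊗[A.obj.carrier q] Cod g q :=
  letI : Algebra (A.obj.carrier p) (Cod f q ⊗[A.obj.carrier q] Cod g q) :=
    ((algebraMap (A.obj.carrier q) (Cod f q ⊗[A.obj.carrier q] Cod g q)).comp (A.obj.res h)).toAlgebra
  let RB : Cod f p →ₐ[A.obj.carrier p] Cod f q ⊗[A.obj.carrier q] Cod g q :=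
    { Algebra.TensorProduct.includeLeftRingHom.comp (cR f h) with
      commutes' := fun a => by
        show toC f q (B.obj.res h (f.hom.app p a)) ⊗ₜ[A.obj.carrier q] (1 : Cod g q) = _
        rw [f.hom.compat]
        rfl }
  let RC : Cod g p →ₐ[A.obj.carrier p] Cod f q ⊗[A.obj.carrier q] Cod g q :=
    { ((Algebra.TensorProduct.includeRight : Cod g q →ₐ[A.obj.carrier q] _).toRingHom).comp
        (cR g h) with
      commutes' := fun a => by
        show (Algebra.TensorProduct.includeRight : Cod g q →ₐ[A.obj.carrier q] Cod f q ⊗[A.obj.carrier q] Cod g q)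
          (toC g q (C.obj.res h (g.hom.app p a))) = _
        rw [g.hom.compat]
        exact (Algebra.TensorProduct.includeRight :
          Cod g q →ₐ[A.obj.carrier q] Cod f q ⊗[A.obj.carrier q] Cod g q).commutes _ }
  (Algebra.TensorProduct.productMap RB RC).toRingHom

lemma pushRes_tmul {p q : X.pt} (h : p ≤ q) (b : Cod f p) (c : Cod g p) :
    pushRes f g h (b ⊗ₜ c) = cR f h b ⊗ₜ[A.obj.carrier q] cR g h c := by
  letI : Algebra (A.obj.carrier p) (Cod f q ⊗[A.obj.carrier q] Cod g q) :=
    ((algebraMap (A.obj.carrier q) (Cod f q ⊗[A.obj.carrier q] Cod g q)).comp (A.obj.res h)).toAlgebra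
  refine (Algebra.TensorProduct.productMap_apply_tmul (R := A.obj.carrier p) _ _ b c).trans ?_
  exact (Algebra.TensorProduct.tmul_mul_tmul _ _ _ _).trans (congrArg₂ (· ⊗ₜ[A.obj.carrier q] ·) (mul_one _) (one_mul _))

/-- The pushout algebra. -/
noncomputable def pushAlg : Alg X where
  carrier p := Cod f p ⊗[A.obj.carrier p] Cod g p
  res h := pushRes f g h
  res_algebraMap {p q} h a := by
    rw [Algebra.TensorProduct.algebraMap_apply, pushRes_tmul, Algebra.TensorProduct.algebraMap_apply]
    exact congrArg₂ (· ⊗ₜ[A.obj.carrier q] ·) (B.obj.res_algebraMap h a) (map_one _)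
  res_self p b := by
    induction b using TensorProduct.induction_on with
    | zero => rw [map_zero]
    | add a b ha hb => rw [map_add, ha, hb]
    | tmul b c => rw [pushRes_tmul]; exact congrArg₂ (· ⊗ₜ[A.obj.carrier p] ·) (B.obj.res_self p b) (C.obj.res_self p c)
  res_comp {p q s} h h' b := by
    induction b using TensorProduct.induction_on with
    | zero => simp only [map_zero]
    | add a b ha hb => simp only [map_add, ha, hb]
    | tmul b c =>
      rw [pushRes_tmul, pushRes_tmul, pushRes_tmul]
      exact congrArg₂ (· ⊗ₜ[A.obj.carrier s] ·) (B.obj.res_comp h h' b) (C.obj.res_comp h h' c)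

theorem pushAlg_qcoh : (pushAlg f g).IsQcoh := by
  refine isQcoh_of_bijective _ fun p q h _ _ _ ha => ?_
  letI : Algebra (X.ring p) (A.obj.carrier q) :=
    ((algebraMap (X.ring q) (A.obj.carrier q)).comp (algebraMap (X.ring p) (X.ring q))).toAlgebra
  haveI : IsScalarTower (X.ring p) (X.ring q) (A.obj.carrier q) := IsScalarTower.of_algebraMap_eq fun _ => rfl
  letI : Algebra (X.ring p) (B.obj.carrier q) :=
    ((algebraMap (X.ring q) (B.obj.carrier q)).comp (algebraMap (X.ring p) (X.ring q))).toAlgebra
  haveI : IsScalarTower (X.ring p) (X.ring q) (B.obj.carrier q) := IsScalarTower.of_algebraMap_eq fun _ => rfl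
  letI : Algebra (X.ring p) (C.obj.carrier q) :=
    ((algebraMap (X.ring q) (C.obj.carrier q)).comp (algebraMap (X.ring p) (X.ring q))).toAlgebra
  haveI : IsScalarTower (X.ring p) (X.ring q) (C.obj.carrier q) := IsScalarTower.of_algebraMap_eq fun _ => rfl
  let K := X.ring q ⊗[X.ring p] (Cod f p ⊗[A.obj.carrier p] Cod g p)
  let T := Cod f q ⊗[A.obj.carrier q] Cod g q
  let Φ : K →+* T := (qHom (pushAlg f g) h ha).toRingHom
  have hΦ : ∀ (r : X.ring q) (b : Cod f p) (c : Cod g p),
      Φ (r ⊗ₜ (b ⊗ₜ c)) = algebraMap (X.ring q) T r * (cR f h b ⊗ₜ cR g h c) := fun r b c => by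
    show qHom (pushAlg f g) h ha (r ⊗ₜ[X.ring p] (b ⊗ₜ[A.obj.carrier p] c)) = _
    rw [qHom_tmul]
    refine (Algebra.smul_def (R := X.ring q) (A := T) r (pushRes f g h (b ⊗ₜ c))).trans ?_
    rw [pushRes_tmul]
  let eA := AlgEquiv.ofBijective _ (bijective_qHom A.obj h ha A.property.1)
  let eB := AlgEquiv.ofBijective _ (bijective_qHom B.obj h ha B.property.1)
  let eC := AlgEquiv.ofBijective _ (bijective_qHom C.obj h ha C.property.1)
  let inB : B.obj.carrier p →ₐ[X.ring p] Cod f p ⊗[A.obj.carrier p] Cod g p :=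
    (Algebra.TensorProduct.includeLeft : Cod f p →ₐ[X.ring p] Cod f p ⊗[A.obj.carrier p] Cod g p)
  let inC : C.obj.carrier p →ₐ[X.ring p] Cod f p ⊗[A.obj.carrier p] Cod g p :=
    ((Algebra.TensorProduct.includeRight : Cod g p →ₐ[A.obj.carrier p] _).restrictScalars (X.ring p))
  let uB : B.obj.carrier q →ₐ[X.ring q] K :=
    (Algebra.TensorProduct.map (AlgHom.id (X.ring q) (X.ring q)) inB).comp eB.symm.toAlgHom
  let uC : C.obj.carrier q →ₐ[X.ring q] K :=
    (Algebra.TensorProduct.map (AlgHom.id (X.ring q) (X.ring q)) inC).comp eC.symm.toAlgHom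
  have hBs : ∀ (r : X.ring q) (b : B.obj.carrier p), uB (r • B.obj.res h b) = r ⊗ₜ inB b := fun r b => by
    show (Algebra.TensorProduct.map (AlgHom.id (X.ring q) (X.ring q)) inB) (eB.symm _) = _
    rw [show r • B.obj.res h b = eB (r ⊗ₜ b) from (qHom_tmul B.obj h ha r b).symm, AlgEquiv.symm_apply_apply,
      Algebra.TensorProduct.map_tmul]
    rfl
  have hCs : ∀ (r : X.ring q) (c : C.obj.carrier p), uC (r • C.obj.res h c) = r ⊗ₜ inC c := fun r c => by
    show (Algebra.TensorProduct.map (AlgHom.id (X.ring q) (X.ring q)) inC) (eC.symm _) = _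
    rw [show r • C.obj.res h c = eC (r ⊗ₜ c) from (qHom_tmul C.obj h ha r c).symm, AlgEquiv.symm_apply_apply,
      Algebra.TensorProduct.map_tmul]
    rfl
  have hagree : ∀ a : A.obj.carrier q, uB (f.hom.app q a) = uC (g.hom.app q a) := fun a => by
    obtain ⟨z, rfl⟩ := eA.surjective a
    show uB (f.hom.app q (qHom A.obj h ha z)) = uC (g.hom.app q (qHom A.obj h ha z))
    induction z using TensorProduct.induction_on with
    | zero => simp only [map_zero]
    | add x y hx hy => simp only [map_add, hx, hy]
    | tmul r a =>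
      rw [qHom_tmul, map_smul (f.hom.app q), map_smul (g.hom.app q), ← f.hom.compat, ← g.hom.compat, hBs, hCs]
      refine congrArg (r ⊗ₜ[X.ring p] ·) ?_
      exact ((Algebra.TensorProduct.includeRight :
        Cod g p →ₐ[A.obj.carrier p] Cod f p ⊗[A.obj.carrier p] Cod g p).commutes a).symm
  letI : Algebra (A.obj.carrier q) K := (uB.toRingHom.comp (f.hom.app q).toRingHom).toAlgebra
  let UB : Cod f q →ₐ[A.obj.carrier q] K :=
    { (show Cod f q →+* K from uB.toRingHom) with commutes' := fun _ => rfl }
  let UC : Cod g q →ₐ[A.obj.carrier q] K :=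
    { (show Cod g q →+* K from uC.toRingHom) with commutes' := fun a => (hagree a).symm }
  let Ψ := Algebra.TensorProduct.productMap UB UC
  have hone : ∀ r : X.ring q, Ψ (algebraMap (X.ring q) T r) = r ⊗ₜ 1 := fun r => by
    rw [Algebra.TensorProduct.algebraMap_apply, Algebra.TensorProduct.productMap_left_apply]
    show uB (algebraMap (X.ring q) (B.obj.carrier q) r) = _
    rw [uB.commutes]
    rfl
  have hleft : ∀ z : K, Ψ (Φ z) = z := fun z => by
    induction z using TensorProduct.induction_on with
    | zero => simp only [map_zero]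
    | add x y hx hy => simp only [map_add, hx, hy]
    | tmul r w =>
      induction w using TensorProduct.induction_on with
      | zero => simp only [tmul_zero, map_zero]
      | add x y hx hy => simp only [tmul_add, map_add, hx, hy]
      | tmul b c =>
        rw [hΦ, map_mul, hone, Algebra.TensorProduct.productMap_apply_tmul]
        show (r ⊗ₜ[X.ring p] 1) * (uB (B.obj.res h b) * uC (C.obj.res h c)) = _
        rw [show B.obj.res h b = (1 : X.ring q) • B.obj.res h b from (one_smul _ _).symm,
          show C.obj.res h c = (1 : X.ring q) • C.obj.res h c from (one_smul _ _).symm, hBs, hCs,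
          Algebra.TensorProduct.tmul_mul_tmul, Algebra.TensorProduct.tmul_mul_tmul, mul_one, mul_one, one_mul]
        refine congrArg (r ⊗ₜ[X.ring p] ·) ?_
        exact (Algebra.TensorProduct.tmul_mul_tmul (R := A.obj.carrier p) _ _ _ _).trans
          (congrArg₂ (· ⊗ₜ[A.obj.carrier p] ·) (mul_one _) (one_mul _))
  refine ⟨fun x y hxy => by rw [← hleft x, ← hleft y]; exact congrArg Ψ hxy, fun t => ?_⟩
  show ∃ z : K, Φ z = (t : T)
  refine TensorProduct.induction_on (motive := fun t : T => ∃ z : K, Φ z = t) t ⟨0, map_zero _⟩ (fun b c => ?_)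
    fun x y ⟨x', hx⟩ ⟨y', hy⟩ => ⟨x' + y', by rw [map_add, hx, hy]⟩
  refine ⟨uB b * uC c, ?_⟩
  have hb : ∀ w : X.ring q ⊗[X.ring p] B.obj.carrier p,
      Φ (Algebra.TensorProduct.map (AlgHom.id (X.ring q) (X.ring q)) inB w) = toC f q (eB w) ⊗ₜ 1 := fun w => by
    induction w using TensorProduct.induction_on with
    | zero => simp only [map_zero]; exact (zero_tmul _ _).symm
    | add x y hx hy => simp only [map_add, hx, hy]; exact (add_tmul _ _ _).symm
    | tmul r b =>
      show Φ (r ⊗ₜ[X.ring p] (toC f p b ⊗ₜ[A.obj.carrier p] (1 : Cod g p))) = _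
      rw [hΦ, Algebra.TensorProduct.algebraMap_apply, Algebra.TensorProduct.tmul_mul_tmul]
      refine congrArg₂ (· ⊗ₜ[A.obj.carrier q] ·) ?_ ((one_mul _).trans (map_one _))
      exact ((qHom_tmul B.obj h ha r b).trans (Algebra.smul_def _ _)).symm
  have hc : ∀ w : X.ring q ⊗[X.ring p] C.obj.carrier p,
      Φ (Algebra.TensorProduct.map (AlgHom.id (X.ring q) (X.ring q)) inC w) = (1 : Cod f q) ⊗ₜ toC g q (eC w) := fun w => by
    induction w using TensorProduct.induction_on with
    | zero => simp only [map_zero]; exact (tmul_zero _ _).symm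
    | add x y hx hy => simp only [map_add, hx, hy]; exact (tmul_add _ _ _).symm
    | tmul r c =>
      show Φ (r ⊗ₜ[X.ring p] ((1 : Cod f p) ⊗ₜ[A.obj.carrier p] toC g p c)) = _
      rw [hΦ]
      rw [show algebraMap (X.ring q) T r = (Algebra.TensorProduct.includeRight :
          Cod g q →ₐ[A.obj.carrier q] T).restrictScalars (X.ring q) (algebraMap (X.ring q) (Cod g q) r) from
        (((Algebra.TensorProduct.includeRight : Cod g q →ₐ[A.obj.carrier q] T).restrictScalars (X.ring q)).commutes r).symm]
      refine (Algebra.TensorProduct.tmul_mul_tmul (R := A.obj.carrier q) _ _ _ _).trans ?_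
      refine congrArg₂ (· ⊗ₜ[A.obj.carrier q] ·) ((one_mul _).trans (map_one _)) ?_
      exact ((qHom_tmul C.obj h ha r c).trans (Algebra.smul_def _ _)).symm
  rw [map_mul]
  show Φ (Algebra.TensorProduct.map (AlgHom.id (X.ring q) (X.ring q)) inB (eB.symm b)) *
      Φ (Algebra.TensorProduct.map (AlgHom.id (X.ring q) (X.ring q)) inC (eC.symm c)) = _
  rw [hb, hc, AlgEquiv.apply_symm_apply, AlgEquiv.apply_symm_apply]
  exact (Algebra.TensorProduct.tmul_mul_tmul (R := A.obj.carrier q) _ _ _ _).trans
    (congrArg₂ (· ⊗ₜ[A.obj.carrier q] ·) (mul_one _) (one_mul _))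

theorem pushAlg_isEtCover : (pushAlg f g).IsEtCover := by
  refine ⟨pushAlg_qcoh f g, fun p => ?_⟩
  haveI := Cod.finite g p
  haveI := Cod.etale g p
  haveI : Module.Finite (X.ring p) (Cod f p) := etCover_finite B p
  haveI : Algebra.Etale (X.ring p) (Cod f p) := etCover_etale B p
  exact ⟨(Module.Finite.trans (Cod f p) _ : Module.Finite (X.ring p) (Cod f p ⊗[A.obj.carrier p] Cod g p)),
    (Algebra.Etale.comp (X.ring p) (Cod f p) _ : Algebra.Etale (X.ring p) (Cod f p ⊗[A.obj.carrier p] Cod g p))⟩

/-- The pushout étale cover. -/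
noncomputable def pushF : FEt X := ⟨pushAlg f g, pushAlg_isEtCover f g⟩

/-- Left inclusion. -/
noncomputable def pushInl : B ⟶ pushF f g :=
  ObjectProperty.homMk
    { app := fun p => (Algebra.TensorProduct.includeLeft : Cod f p →ₐ[X.ring p] Cod f p ⊗[A.obj.carrier p] Cod g p)
      compat := fun {p q} h b =>
        (pushRes_tmul f g h b 1).trans (congrArg (cR f h b ⊗ₜ[A.obj.carrier q] ·) (map_one _)) }

/-- Right inclusion. -/
noncomputable def pushInr : C ⟶ pushF f g :=
  ObjectProperty.homMk
    { app := fun p => ((Algebra.TensorProduct.includeRight :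
        Cod g p →ₐ[A.obj.carrier p] Cod f p ⊗[A.obj.carrier p] Cod g p).restrictScalars (X.ring p))
      compat := fun {p q} h c =>
        (pushRes_tmul f g h 1 c).trans (congrArg (· ⊗ₜ[A.obj.carrier q] cR g h c) (map_one _)) }

lemma push_condition : f ≫ pushInl f g = g ≫ pushInr f g := fet_hom_ext fun p a =>
  ((Algebra.TensorProduct.includeRight :
    Cod g p →ₐ[A.obj.carrier p] Cod f p ⊗[A.obj.carrier p] Cod g p).commutes a).symm

/-- The pointwise descent map out of a pushout. -/
noncomputable def pushDescApp {T : FEt X} (s : B ⟶ T) (t : C ⟶ T) (w : f ≫ s = g ≫ t) (p : X.pt) :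
    Cod f p ⊗[A.obj.carrier p] Cod g p →ₐ[X.ring p] T.obj.carrier p :=
  letI : Algebra (A.obj.carrier p) (T.obj.carrier p) :=
    ((s.hom.app p).toRingHom.comp (f.hom.app p).toRingHom).toAlgebra
  haveI : IsScalarTower (X.ring p) (A.obj.carrier p) (T.obj.carrier p) := IsScalarTower.of_algebraMap_eq fun r => by
    show _ = s.hom.app p (f.hom.app p (algebraMap (X.ring p) (A.obj.carrier p) r))
    rw [AlgHom.commutes, AlgHom.commutes]
  (Algebra.TensorProduct.productMap
    ({ (show Cod f p →+* T.obj.carrier p from (s.hom.app p).toRingHom) with commutes' := fun _ => rfl } :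
      Cod f p →ₐ[A.obj.carrier p] T.obj.carrier p)
    ({ (show Cod g p →+* T.obj.carrier p from (t.hom.app p).toRingHom) with
        commutes' := fun a =>
          (AlgHom.congr_fun (congrFun (congrArg Alg.Hom.app (congrArg InducedCategory.Hom.hom w)) p) a).symm } :
      Cod g p →ₐ[A.obj.carrier p] T.obj.carrier p)).restrictScalars (X.ring p)

lemma pushDescApp_tmul {T : FEt X} (s : B ⟶ T) (t : C ⟶ T) (w : f ≫ s = g ≫ t) (p : X.pt) (b : Cod f p)
    (c : Cod g p) : pushDescApp f g s t w p (b ⊗ₜ c) = s.hom.app p b * t.hom.app p c := rfl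

/-- Descent out of a pushout. -/
noncomputable def pushDesc {T : FEt X} (s : B ⟶ T) (t : C ⟶ T) (w : f ≫ s = g ≫ t) : pushF f g ⟶ T :=
  ObjectProperty.homMk
    { app := fun p => pushDescApp f g s t w p
      compat := fun {p q} h z => by
        change Cod f p ⊗[A.obj.carrier p] Cod g p at z
        show T.obj.res h (pushDescApp f g s t w p z) = pushDescApp f g s t w q (pushRes f g h z)
        induction z using TensorProduct.induction_on with
        | zero => simp only [map_zero]
        | add x y hx hy => simp only [map_add, hx, hy]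
        | tmul b c =>
          rw [pushRes_tmul, pushDescApp_tmul, pushDescApp_tmul, map_mul, s.hom.compat, t.hom.compat]
          rfl }

/-- The pushout square is a colimit. -/
noncomputable def isColimitPush : IsColimit (PushoutCocone.mk _ _ (push_condition f g)) :=
  PushoutCocone.IsColimit.mk _ (fun c => pushDesc f g c.inl c.inr c.condition)
    (fun c => fet_hom_ext fun p b => by
      show pushDescApp f g c.inl c.inr c.condition p (toC f p b ⊗ₜ 1) = _
      rw [pushDescApp_tmul]
      exact (congrArg _ (map_one _)).trans (mul_one _))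
    (fun c => fet_hom_ext fun p b => by
      show pushDescApp f g c.inl c.inr c.condition p ((1 : Cod f p) ⊗ₜ toC g p b) = _
      rw [pushDescApp_tmul]
      exact (congrArg (· * _) (map_one _)).trans (one_mul _))
    fun c m h1 h2 => fet_hom_ext fun p z => by
      change Cod f p ⊗[A.obj.carrier p] Cod g p at z
      show m.hom.app p z = pushDescApp f g c.inl c.inr c.condition p z
      induction z using TensorProduct.induction_on with
      | zero => rw [map_zero]; exact map_zero (m.hom.app p)
      | add x y hx hy => rw [map_add, ← hx, ← hy]; exact map_add (m.hom.app p) x y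
      | tmul b b' =>
        rw [pushDescApp_tmul, ← h1, ← h2]
        show m.hom.app p _ = m.hom.app p (toC f p b ⊗ₜ 1) * m.hom.app p ((1 : Cod f p) ⊗ₜ toC g p b')
        refine Eq.trans ?_ (map_mul (m.hom.app p) _ _)
        exact congrArg (m.hom.app p) ((Algebra.TensorProduct.tmul_mul_tmul (R := A.obj.carrier p) _ _ _ _).trans
          (congrArg₂ (· ⊗ₜ[A.obj.carrier p] ·) (mul_one _) (one_mul _))).symm

theorem hasPushouts (X : RSpace.{u}) : HasPushouts (FEt X) :=
  @hasPushouts_of_hasColimit_span _ _ fun {_ _ _ f g} => ⟨⟨⟨_, isColimitPush f g⟩⟩⟩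

end Groth.Agent.SchFinLib
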