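import Groth.Agent.SchFinLib.Cat

/-!
# Finite products of étale covers
-/

set_option autoImplicit false

universe u

open SchFin CategoryTheory CategoryTheory.Limits

namespace Groth.Agent.SchFinLib

theorem hasFiniteProducts (X : RSpace.{u}) : HasFiniteProducts (FEt X) :=
  ⟨fun n => ⟨fun K => by
    haveI : HasLimit (Discrete.functor (K.obj ∘ Discrete.mk)) := ⟨⟨⟨_, isLimitPiFan (K.obj ∘ Discrete.mk)⟩⟩⟩
    exact hasLimit_of_iso Discrete.natIsoFunctor.symm⟩⟩

end Groth.Agent.SchFinLib
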