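import Mathlib

/-!
# Finite étale maps of rings: idempotent kernels and surjectivity by rank
-/

set_option autoImplicit false
set_option linter.unusedSectionVars false

universe u

open TensorProduct

namespace Groth.Agent.SchFinLib

variable {A B : Type u} [CommRing A] [CommRing B] [Algebra A B] [Algebra.Etale A B] [Module.Finite A B]

theorem projective_of_etale : Module.Projective A B := by
  haveI := Module.FinitePresentation.of_finite_of_finitePresentation A B
  exact Module.Flat.projective_of_finitePresentation

/-- The kernel of a finite étale map is generated by an idempotent. -/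
theorem exists_idem_ker : ∃ e : A, IsIdempotentElem e ∧ RingHom.ker (algebraMap A B) = Ideal.span {e} := by
  classical
  haveI := projective_of_etale (A := A) (B := B)
  obtain ⟨n, f, g, -, -, hfg⟩ := Module.Finite.exists_comp_eq_id_of_projective A B
  let τ : Ideal A := Ideal.span (Set.range fun p : B × Fin n => g p.1 p.2)
  have hτ : ∀ x ∈ RingHom.ker (algebraMap A B), ∀ t ∈ τ, x * t = 0 := fun x hx t ht => by
    induction ht using Submodule.span_induction with
    | mem t ht =>
      obtain ⟨⟨b, i⟩, rfl⟩ := ht
      show x • g b i = 0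
      rw [← Pi.smul_apply, ← map_smul, Algebra.smul_def, RingHom.mem_ker.mp hx, zero_mul, map_zero]
      rfl
    | zero => exact mul_zero x
    | add a b _ _ ha hb => rw [mul_add, ha, hb, add_zero]
    | smul a b _ hb => rw [smul_eq_mul, mul_left_comm, hb, mul_zero]
  have hle : (⊤ : Submodule A B) ≤ τ • (⊤ : Submodule A B) := fun b _ => by
    have hb : b = ∑ i, g b i • f (Pi.single i 1) := by
      conv_lhs => rw [← LinearMap.id_apply (R := A) b, ← hfg, LinearMap.comp_apply,
        show g b = ∑ i, g b i • (Pi.single i 1 : Fin n → A) from funext fun j => by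
          simp [Finset.sum_apply, Pi.single_apply]]
      simp [map_sum]
    rw [hb]
    exact Submodule.sum_mem _ fun i _ => Submodule.smul_mem_smul (Submodule.subset_span ⟨(b, i), rfl⟩) trivial
  obtain ⟨r, hr1, hr2⟩ := Submodule.exists_sub_one_mem_and_smul_eq_zero_of_fg_of_le_smul τ ⊤ Module.Finite.fg_top hle
  have hr : r ∈ RingHom.ker (algebraMap A B) := by
    rw [RingHom.mem_ker, Algebra.algebraMap_eq_smul_one]
    exact hr2 1 trivial
  have key : ∀ x ∈ RingHom.ker (algebraMap A B), x * r = x := fun x hx => by
    have := hτ x hx _ hr1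
    rw [mul_sub, mul_one, sub_eq_zero] at this
    exact this
  refine ⟨r, key r hr, le_antisymm (fun x hx => ?_) (by rwa [Ideal.span_le, Set.singleton_subset_iff])⟩
  rw [← key x hx]
  exact Ideal.mul_mem_left _ _ (Ideal.subset_span rfl)

/-- An injective finite étale map is faithfully flat. -/
theorem faithfullyFlat_of_injective (h : Function.Injective (algebraMap A B)) : Module.FaithfullyFlat A B := by
  haveI : Module.Flat A B := Algebra.Smooth.flat A B
  haveI : FaithfulSMul A B := (faithfulSMul_iff_algebraMap_injective A B).mpr h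
  haveI : Algebra.IsIntegral A B := Algebra.IsIntegral.of_finite A B
  refine Module.FaithfullyFlat.of_comap_surjective fun P => ?_
  obtain ⟨Q, -, hQp, hQc⟩ := Ideal.exists_ideal_over_prime_of_isIntegral P.asIdeal (⊥ : Ideal B)
    (by rw [show Ideal.comap (algebraMap A B) (⊥ : Ideal B) = ⊥ from (RingHom.injective_iff_ker_eq_bot _).mp h]; exact bot_le)
  exact ⟨⟨Q, hQp⟩, PrimeSpectrum.ext hQc⟩

lemma eq_of_span_idem {e e' : A} (he : IsIdempotentElem e) (he' : IsIdempotentElem e')
    (h : Ideal.span {e} = Ideal.span ({e'} : Set A)) : e = e' := by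
  have h1 : e ∈ Ideal.span ({e'} : Set A) := h ▸ Ideal.mem_span_singleton_self e
  have h2 : e' ∈ Ideal.span ({e} : Set A) := h.symm ▸ Ideal.mem_span_singleton_self e'
  obtain ⟨a, rfl⟩ := Ideal.mem_span_singleton'.mp h1
  obtain ⟨b, hb⟩ := Ideal.mem_span_singleton'.mp h2
  calc a * e' = a * e' * e' := by rw [mul_assoc, he'.eq]
    _ = a * e' * (b * (a * e')) := by rw [hb]
    _ = b * ((a * e') * (a * e')) := by ring
    _ = e' := by rw [he.eq, hb]

end Groth.Agent.SchFinLib
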