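import Groth.Agent.SchFinLib.QcAlg
import Groth.Agent.SchFinLib.Idem

/-!
# The category of étale covers: products, initial object, pushouts, kernels
-/

set_option autoImplicit false
set_option linter.unusedSectionVars false

universe u

open SchFin TensorProduct CategoryTheory CategoryTheory.Limits

namespace Groth.Agent.SchFinLib

variable {X : RSpace.{u}}

lemma etCover_finite (A : FEt X) (p : X.pt) : Module.Finite (X.ring p) (A.obj.carrier p) := (A.property.2 p).1

lemma etCover_etale (A : FEt X) (p : X.pt) : Algebra.Etale (X.ring p) (A.obj.carrier p) := (A.property.2 p).2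

lemma hom_app_comp {A B C : FEt X} (f : A ⟶ B) (g : B ⟶ C) (p : X.pt) :
    (f ≫ g).hom.app p = (g.hom.app p).comp (f.hom.app p) := rfl

lemma fet_hom_ext {A B : FEt X} {f g : A ⟶ B} (h : ∀ p a, f.hom.app p a = g.hom.app p a) : f = g :=
  ObjectProperty.hom_ext _ (Alg.hom_ext _ _ fun p => AlgHom.ext (h p))

/-! ### The structure algebra -/

theorem str_isEtCover : (Alg.str X).IsEtCover := by
  refine ⟨isQcoh_of_bijective _ fun p q h _ _ _ ha => ?_, fun p => ⟨Module.Finite.self _, inferInstanceAs (Algebra.Etale (X.ring p) (X.ring p))⟩⟩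
  have key : ∀ z : X.ring q ⊗[X.ring p] (Alg.str X).carrier p,
      z = (id (qHom (Alg.str X) h ha z) : X.ring q) ⊗ₜ[X.ring p] (1 : (Alg.str X).carrier p) := fun z => by
    induction z using TensorProduct.induction_on with
    | zero => rw [map_zero, id]; exact (zero_tmul _ _).symm
    | add a b ha' hb' => rw [map_add]; conv_lhs => rw [ha', hb']
                         exact (add_tmul _ _ _).symm
    | tmul r b =>
      rw [qHom_tmul]
      show @Eq (X.ring q ⊗[X.ring p] X.ring p) (r ⊗ₜ[X.ring p] (@id (X.ring p) b))
        ((r * X.res h b) ⊗ₜ[X.ring p] (1 : X.ring p))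
      rw [show r * X.res h b = (@id (X.ring p) b) • r by rw [Algebra.smul_def, ha, mul_comm]; rfl,
        TensorProduct.smul_tmul, smul_eq_mul, mul_one]
  refine ⟨fun z z' hz => by rw [key z, key z', hz], fun r => ⟨r ⊗ₜ (1 : X.ring p), ?_⟩⟩
  rw [qHom_tmul]
  show @id (X.ring q) r * X.res h 1 = @id (X.ring q) r
  rw [map_one, mul_one]

/-- The initial étale cover. -/
noncomputable def strF (X : RSpace.{u}) : FEt X := ⟨Alg.str X, str_isEtCover⟩

/-- The map out of the initial étale cover. -/
noncomputable def fromStr (A : FEt X) : strF X ⟶ A :=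
  ObjectProperty.homMk
    { app := fun p => (Algebra.ofId (X.ring p) (A.obj.carrier p) : (Alg.str X).carrier p →ₐ[X.ring p] A.obj.carrier p)
      compat := fun h b => A.obj.res_algebraMap h b }

/-- The structure algebra is initial. -/
noncomputable def isInitialStr (X : RSpace.{u}) : IsInitial (strF X) :=
  IsInitial.ofUniqueHom fromStr fun A f => fet_hom_ext fun p a => by
    change X.ring p at a
    rw [show f.hom.app p a = f.hom.app p (algebraMap (X.ring p) ((Alg.str X).carrier p) a) from rfl]
    exact (f.hom.app p).commutes a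

/-! ### Finite products -/

section pi
variable {ι : Type} [Finite ι] (F : ι → FEt X)

/-- Product of algebras. -/
noncomputable def piAlg : Alg X where
  carrier p := ∀ i, (F i).obj.carrier p
  res h := Pi.ringHom fun i => ((F i).obj.res h).comp (Pi.evalRingHom _ i)
  res_algebraMap h a := funext fun i => (F i).obj.res_algebraMap h a
  res_self p b := funext fun i => (F i).obj.res_self p (b i)
  res_comp h h' b := funext fun i => (F i).obj.res_comp h h' (b i)

theorem piAlg_isEtCover : (piAlg F).IsEtCover := by
  classical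
  haveI := Fintype.ofFinite ι
  refine ⟨isQcoh_of_bijective _ fun p q h _ _ _ ha => ?_, fun p => ?_⟩
  · letI : ∀ i, Algebra (X.ring p) ((F i).obj.carrier q) := fun i =>
      ((algebraMap (X.ring q) ((F i).obj.carrier q)).comp (algebraMap (X.ring p) (X.ring q))).toAlgebra
    haveI : ∀ i, IsScalarTower (X.ring p) (X.ring q) ((F i).obj.carrier q) := fun i =>
      IsScalarTower.of_algebraMap_eq fun _ => rfl
    let e := TensorProduct.piRight (X.ring p) (X.ring q) (X.ring q) (fun i => (F i).obj.carrier p)
    have he : ∀ z i, qHom (piAlg F) h ha z i = qHom (F i).obj h ha (e z i) := fun z i => by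
      induction z using TensorProduct.induction_on with
      | zero =>
        rw [map_zero]
        exact ((congrArg (qHom (F i).obj h ha) (congrFun (map_zero e) i)).trans (map_zero _)).symm
      | add a b ha' hb' =>
        rw [map_add]
        exact (congrArg₂ (· + ·) ha' hb').trans
          ((congrArg (qHom (F i).obj h ha) (congrFun (map_add e a b) i)).trans (map_add _ _ _)).symm
      | tmul r b =>
        rw [qHom_tmul]
        exact (qHom_tmul (F i).obj h ha r (b i)).symm
    refine ⟨fun z z' hz => e.injective (funext fun i => ?_), fun b => ?_⟩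
    · exact (bijective_qHom (F i).obj h ha (F i).property.1).1 (by rw [← he, ← he, hz])
    · choose w hw using fun i => (bijective_qHom (F i).obj h ha (F i).property.1).2 (b i)
      obtain ⟨z, hz⟩ := e.surjective w
      exact ⟨z, funext fun i => by rw [he, hz, hw]⟩
  · haveI := fun i => etCover_finite (F i) p
    haveI := fun i => etCover_etale (F i) p
    exact ⟨inferInstanceAs (Module.Finite (X.ring p) (∀ i, (F i).obj.carrier p)),
      inferInstanceAs (Algebra.Etale (X.ring p) (∀ i, (F i).obj.carrier p))⟩

/-- Product of étale covers. -/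
noncomputable def piF : FEt X := ⟨piAlg F, piAlg_isEtCover F⟩

/-- Projections. -/
noncomputable def piProj (i : ι) : piF F ⟶ F i :=
  ObjectProperty.homMk
    { app := fun p => Pi.evalAlgHom (X.ring p) (fun i => (F i).obj.carrier p) i
      compat := fun _ _ => rfl }

/-- Lift into a product. -/
noncomputable def piLift {T : FEt X} (s : ∀ i, T ⟶ F i) : T ⟶ piF F :=
  ObjectProperty.homMk
    { app := fun p =>
        ((AlgHom.ofLinearMap (LinearMap.pi fun i => ((s i).hom.app p).toLinearMap)
          (funext fun i => map_one ((s i).hom.app p)) (fun a b => funext fun i => map_mul ((s i).hom.app p) a b)) :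
          T.obj.carrier p →ₐ[X.ring p] ∀ i, (F i).obj.carrier p)
      compat := fun h b => funext fun i => (s i).hom.compat h b }

/-- The product fan is a limit. -/
noncomputable def isLimitPiFan : IsLimit (Fan.mk (piF F) (piProj F)) :=
  mkFanLimit _ (fun s => piLift F s.proj) (fun _ _ => fet_hom_ext fun _ _ => rfl)
    fun _ m hm => fet_hom_ext fun p a => funext fun i =>
      AlgHom.congr_fun (congrFun (congrArg Alg.Hom.app (congrArg InducedCategory.Hom.hom (hm i))) p) a

end pi

/-! ### Cutting by an idempotent section -/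

/-- An idempotent section of an algebra. -/
structure Idem (A : FEt X) where
  /-- the idempotent at a point -/
  e : ∀ p, A.obj.carrier p
  idem : ∀ p, IsIdempotentElem (e p)
  compat : ∀ {p q : X.pt} (h : p ≤ q), A.obj.res h (e p) = e q

/-- The complementary idempotent section. -/
noncomputable def Idem.compl {A : FEt X} (E : Idem A) : Idem A where
  e p := 1 - E.e p
  idem p := (E.idem p).one_sub
  compat h := by rw [map_sub, map_one, E.compat h]

variable {A : FEt X} (E : Idem A)

/-- Quotient by an idempotent section. -/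
noncomputable def cutAlg : Alg X where
  carrier p := A.obj.carrier p ⧸ Ideal.span ({E.e p} : Set (A.obj.carrier p))
  res {p q} h := Ideal.quotientMap _ (A.obj.res h) (by
    rw [Ideal.span_le, Set.singleton_subset_iff, SetLike.mem_coe, Ideal.mem_comap, E.compat h]
    exact Ideal.mem_span_singleton_self _)
  res_algebraMap h a := congrArg (Ideal.Quotient.mk _) (A.obj.res_algebraMap h a)
  res_self p b := by
    obtain ⟨a, rfl⟩ := Ideal.Quotient.mk_surjective b
    exact congrArg (Ideal.Quotient.mk _) (A.obj.res_self p a)
  res_comp h h' b := by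
    obtain ⟨a, rfl⟩ := Ideal.Quotient.mk_surjective b
    exact congrArg (Ideal.Quotient.mk _) (A.obj.res_comp h h' a)

lemma mk_eq_mk_iff (p : X.pt) (a a' : A.obj.carrier p) :
    Ideal.Quotient.mk (Ideal.span ({E.e p} : Set (A.obj.carrier p))) a = Ideal.Quotient.mk _ a' ↔
      (1 - E.e p) * a = (1 - E.e p) * a' := by
  rw [Ideal.Quotient.eq]
  constructor
  · intro h
    obtain ⟨c, hc⟩ := Ideal.mem_span_singleton'.mp h
    rw [← sub_eq_zero, ← mul_sub, ← hc, mul_left_comm, sub_mul, one_mul, (E.idem p).eq, sub_self, mul_zero]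
  · intro h
    refine Ideal.mem_span_singleton'.mpr ⟨a - a', ?_⟩
    linear_combination -h

theorem cutAlg_isEtCover : (cutAlg E).IsEtCover := by
  refine ⟨?_, fun p => ?_⟩
  · let s : ∀ p, (cutAlg E).carrier p →ₗ[X.ring p] A.obj.carrier p := fun p =>
      { toFun := fun x => Quotient.liftOn' x (fun a => (1 - E.e p) * a) fun a a' h =>
          (mk_eq_mk_iff E p a a').mp (Quotient.sound' h)
        map_add' := fun x y => by
          obtain ⟨a, rfl⟩ := Ideal.Quotient.mk_surjective x
          obtain ⟨b, rfl⟩ := Ideal.Quotient.mk_surjective y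
          exact mul_add _ _ _
        map_smul' := fun r x => by
          obtain ⟨a, rfl⟩ := Ideal.Quotient.mk_surjective x
          exact mul_smul_comm r _ a }
    let π : ∀ p, A.obj.carrier p →ₗ[X.ring p] (cutAlg E).carrier p := fun p =>
      (Ideal.Quotient.mkₐ (X.ring p) (Ideal.span ({E.e p} : Set (A.obj.carrier p)))).toLinearMap
    refine isQcoh_of_retract (cutAlg E) A.obj A.property.1 s π (fun p x => ?_) (fun p q h x => ?_) (fun p q h b => rfl)
    · obtain ⟨a, rfl⟩ := Ideal.Quotient.mk_surjective x
      refine (mk_eq_mk_iff E p _ a).mpr ?_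
      show (1 - E.e p) * ((1 - E.e p) * a) = _
      rw [← mul_assoc, (E.idem p).one_sub.eq]
    · obtain ⟨a, rfl⟩ := Ideal.Quotient.mk_surjective x
      show A.obj.res h ((1 - E.e p) * a) = (1 - E.e q) * A.obj.res h a
      rw [map_mul, map_sub, map_one, E.compat h]
  · haveI := etCover_finite A p
    haveI := etCover_etale A p
    haveI : IsScalarTower (X.ring p) (A.obj.carrier p) (A.obj.carrier p ⧸ Ideal.span ({E.e p} : Set (A.obj.carrier p))) :=
      IsScalarTower.of_algebraMap_eq fun _ => rfl
    haveI : IsLocalization.Away (1 - E.e p) (A.obj.carrier p ⧸ Ideal.span ({E.e p} : Set (A.obj.carrier p))) := by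
      refine IsLocalization.away_of_isIdempotentElem (E.idem p).one_sub ?_ Ideal.Quotient.mk_surjective
      rw [Ideal.Quotient.algebraMap_eq, Ideal.mk_ker, sub_sub_cancel]
    haveI : Algebra.Etale (A.obj.carrier p) (A.obj.carrier p ⧸ Ideal.span ({E.e p} : Set (A.obj.carrier p))) := Algebra.Etale.of_isLocalizationAway (1 - E.e p)
    haveI : Module.Finite (A.obj.carrier p) (A.obj.carrier p ⧸ Ideal.span ({E.e p} : Set (A.obj.carrier p))) := inferInstance
    have h1 : Module.Finite (X.ring p) (A.obj.carrier p ⧸ Ideal.span ({E.e p} : Set (A.obj.carrier p))) :=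
      Module.Finite.trans (A.obj.carrier p) _
    have h2 : Algebra.Etale (X.ring p) (A.obj.carrier p ⧸ Ideal.span ({E.e p} : Set (A.obj.carrier p))) :=
      Algebra.Etale.comp (X.ring p) (A.obj.carrier p) _
    exact ⟨h1, h2⟩

/-- Quotient étale cover. -/
noncomputable def cutF : FEt X := ⟨cutAlg E, cutAlg_isEtCover E⟩

/-- The quotient map. -/
noncomputable def cutπ : A ⟶ cutF E :=
  ObjectProperty.homMk
    { app := fun p => Ideal.Quotient.mkₐ (X.ring p) (Ideal.span ({E.e p} : Set (A.obj.carrier p)))
      compat := fun _ _ => rfl }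

lemma cutπ_surjective (p : X.pt) : Function.Surjective ((cutπ E).hom.app p) := Ideal.Quotient.mk_surjective

lemma cutπ_eq_zero_iff (p : X.pt) (a : A.obj.carrier p) :
    (cutπ E).hom.app p a = 0 ↔ a ∈ Ideal.span ({E.e p} : Set (A.obj.carrier p)) := Ideal.Quotient.eq_zero_iff_mem

/-- Pointwise bijective pairs are products. -/
theorem isLimit_binaryFan {A B D : FEt X} (f : A ⟶ B) (π : A ⟶ D)
    (hb : ∀ p, Function.Bijective fun a => (f.hom.app p a, π.hom.app p a)) :
    Nonempty (IsLimit (BinaryFan.mk f π)) := by
  let pr (p : X.pt) : A.obj.carrier p →ₐ[X.ring p] B.obj.carrier p × D.obj.carrier p := (f.hom.app p).prod (π.hom.app p)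
  let e (p : X.pt) := AlgEquiv.ofBijective (pr p) (hb p)
  let L {T : FEt X} (s : T ⟶ B) (t : T ⟶ D) : T ⟶ A :=
    ObjectProperty.homMk
      { app := fun p => (e p).symm.toAlgHom.comp ((s.hom.app p).prod (t.hom.app p))
        compat := fun {p q} h b => (e q).injective (by
          show _ = e q ((e q).symm (s.hom.app q (T.obj.res h b), t.hom.app q (T.obj.res h b)))
          rw [AlgEquiv.apply_symm_apply, ← s.hom.compat, ← t.hom.compat]
          show (f.hom.app q (A.obj.res h _), π.hom.app q (A.obj.res h _)) = _
          rw [← f.hom.compat, ← π.hom.compat]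
          have hp := (e p).apply_symm_apply (s.hom.app p b, t.hom.app p b)
          exact congrArg (fun w : B.obj.carrier p × D.obj.carrier p => (B.obj.res h w.1, D.obj.res h w.2)) hp) }
  refine ⟨BinaryFan.IsLimit.mk _ (fun s t => L s t) (fun s t => fet_hom_ext fun p a => ?_)
    (fun s t => fet_hom_ext fun p a => ?_) fun s t m h1 h2 => fet_hom_ext fun p a => (e p).injective ?_⟩
  · exact congrArg Prod.fst ((e p).apply_symm_apply (s.hom.app p a, t.hom.app p a))
  · exact congrArg Prod.snd ((e p).apply_symm_apply (s.hom.app p a, t.hom.app p a))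
  · show _ = e p ((e p).symm (s.hom.app p a, t.hom.app p a))
    rw [AlgEquiv.apply_symm_apply]
    exact Prod.ext (AlgHom.congr_fun (congrFun (congrArg Alg.Hom.app (congrArg InducedCategory.Hom.hom h1)) p) a)
      (AlgHom.congr_fun (congrFun (congrArg Alg.Hom.app (congrArg InducedCategory.Hom.hom h2)) p) a)

end Groth.Agent.SchFinLib
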