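import Groth.Agent.SchFinLib.Cat

/-!
# Kernels of maps of étale covers, factorisation, monomorphisms, complements
-/

set_option autoImplicit false
set_option linter.unusedSectionVars false

universe u

open SchFin TensorProduct CategoryTheory CategoryTheory.Limits

namespace Groth.Agent.SchFinLib

variable {X : RSpace.{u}}

/-- The target of a map at a point, as an algebra over the source. -/
def Cod {A B : FEt X} (_ : A ⟶ B) (p : X.pt) : Type u := B.obj.carrier p

section
variable {A B : FEt X} (f : A ⟶ B) (p : X.pt)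

noncomputable instance Cod.commRing : CommRing (Cod f p) := inferInstanceAs (CommRing (B.obj.carrier p))

noncomputable instance Cod.algebraBase : Algebra (X.ring p) (Cod f p) :=
  inferInstanceAs (Algebra (X.ring p) (B.obj.carrier p))

noncomputable instance Cod.algebra : Algebra (A.obj.carrier p) (Cod f p) :=
  RingHom.toAlgebra (show A.obj.carrier p →+* Cod f p from (f.hom.app p).toRingHom)

instance Cod.tower : IsScalarTower (X.ring p) (A.obj.carrier p) (Cod f p) :=
  IsScalarTower.of_algebraMap_eq fun r => ((f.hom.app p).commutes r).symm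

lemma Cod.finite : Module.Finite (A.obj.carrier p) (Cod f p) := by
  haveI : Module.Finite (X.ring p) (Cod f p) := etCover_finite B p
  exact Module.Finite.of_restrictScalars_finite (X.ring p) (A.obj.carrier p) (Cod f p)

lemma Cod.etale : Algebra.Etale (A.obj.carrier p) (Cod f p) := by
  haveI : Algebra.Etale (X.ring p) (Cod f p) := etCover_etale B p
  haveI := etCover_etale A p
  exact Algebra.Etale.of_restrictScalars (X.ring p) _ _

end

/-- The kernel of a map of étale covers is cut out by an idempotent section. -/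
theorem exists_kerIdem (hX : X.IsFinSp) {A B : FEt X} (f : A ⟶ B) :
    ∃ E : Idem A, ∀ p a, f.hom.app p a = 0 ↔ a ∈ Ideal.span ({E.e p} : Set (A.obj.carrier p)) := by
  have H : ∀ p, ∃ e : A.obj.carrier p, IsIdempotentElem e ∧ ∀ a, f.hom.app p a = 0 ↔ a ∈ Ideal.span ({e} : Set (A.obj.carrier p)) := by
    intro p
    haveI := Cod.finite f p
    haveI := Cod.etale f p
    obtain ⟨e, he, hk⟩ := exists_idem_ker (A := A.obj.carrier p) (B := Cod f p)
    exact ⟨e, he, fun a => by rw [← hk]; rfl⟩
  choose e he hk using H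
  refine ⟨⟨e, he, fun {p q} h => ?_⟩, hk⟩
  letI := (X.res h).toAlgebra
  letI : Algebra (X.ring p) (A.obj.carrier q) := ((algebraMap (X.ring q) (A.obj.carrier q)).comp (X.res h)).toAlgebra
  haveI : IsScalarTower (X.ring p) (X.ring q) (A.obj.carrier q) := IsScalarTower.of_algebraMap_eq fun _ => rfl
  letI : Algebra (X.ring p) (B.obj.carrier q) := ((algebraMap (X.ring q) (B.obj.carrier q)).comp (X.res h)).toAlgebra
  haveI : IsScalarTower (X.ring p) (X.ring q) (B.obj.carrier q) := IsScalarTower.of_algebraMap_eq fun _ => rfl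
  haveI : Module.Flat (X.ring p) (X.ring q) := hX.2 p q h
  have hA := bijective_qHom A.obj h rfl A.property.1
  have hB := bijective_qHom B.obj h rfl B.property.1
  let fl : A.obj.carrier p →ₗ[X.ring p] B.obj.carrier p := (f.hom.app p).toLinearMap
  have hcomp : ∀ z, qHom B.obj h rfl (fl.lTensor (X.ring q) z) = f.hom.app q (qHom A.obj h rfl z) := fun z => by
    induction z using TensorProduct.induction_on with
    | zero => simp only [map_zero]
    | add a b ha' hb' => simp only [map_add, ha', hb']
    | tmul r a =>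
      rw [LinearMap.lTensor_tmul, qHom_tmul, qHom_tmul, map_smul]
      exact congrArg (r • ·) (f.hom.compat h a)
  refine eq_of_span_idem ((he p).map (A.obj.res h)) (he q) (le_antisymm ?_ fun x hx => ?_)
  · rw [Ideal.span_le, Set.singleton_subset_iff]
    refine (hk q _).mp ?_
    rw [← f.hom.compat, (hk p (e p)).mpr (Ideal.mem_span_singleton_self _), map_zero]
  · obtain ⟨z, rfl⟩ := hA.2 x
    have hz : fl.lTensor (X.ring q) z = 0 := hB.1 (by rw [hcomp, (hk q _).mpr hx, map_zero])
    have hex : Function.Exact (LinearMap.ker fl).subtype fl := LinearMap.exact_subtype_ker_map fl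
    obtain ⟨w, rfl⟩ := (Module.Flat.lTensor_exact (X.ring q) hex z).mp hz
    clear hx hz
    induction w using TensorProduct.induction_on with
    | zero => simp only [map_zero]; exact Submodule.zero_mem _
    | add a b ha' hb' => simp only [map_add]; exact Submodule.add_mem _ ha' hb'
    | tmul r a =>
      rw [LinearMap.lTensor_tmul, qHom_tmul, Algebra.smul_def]
      refine Ideal.mul_mem_left _ _ ?_
      obtain ⟨c, hc⟩ := Ideal.mem_span_singleton'.mp ((hk p a.1).mp a.2)
      show A.obj.res h a.1 ∈ _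
      rw [← hc, map_mul]
      exact Ideal.mul_mem_left _ _ (Ideal.mem_span_singleton_self _)

/-- The induced map from the cut. -/
noncomputable def cutLift {A B : FEt X} (f : A ⟶ B) (E : Idem A)
    (hE : ∀ p a, a ∈ Ideal.span ({E.e p} : Set (A.obj.carrier p)) → f.hom.app p a = 0) : cutF E ⟶ B :=
  ObjectProperty.homMk
    { app := fun p => Ideal.Quotient.liftₐ (Ideal.span ({E.e p} : Set (A.obj.carrier p))) (f.hom.app p) (hE p)
      compat := fun h x => by
        obtain ⟨a, rfl⟩ := Ideal.Quotient.mk_surjective x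
        exact f.hom.compat h a }

lemma cutLift_comp {A B : FEt X} (f : A ⟶ B) (E : Idem A)
    (hE : ∀ p a, a ∈ Ideal.span ({E.e p} : Set (A.obj.carrier p)) → f.hom.app p a = 0) :
    cutπ E ≫ cutLift f E hE = f := fet_hom_ext fun _ _ => rfl

theorem exists_factor (hX : X.IsFinSp) {A B : FEt X} (f : A ⟶ B) :
    ∃ (Q : FEt X) (g : A ⟶ Q) (h : Q ⟶ B), g ≫ h = f ∧ (∀ p : X.pt, Function.Surjective (g.hom.app p)) ∧
      ∀ p : X.pt, Function.Injective (h.hom.app p) := by
  obtain ⟨E, hE⟩ := exists_kerIdem hX f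
  refine ⟨cutF E, cutπ E, cutLift f E fun p a => (hE p a).mpr, cutLift_comp f E _, cutπ_surjective E, fun p => ?_⟩
  rw [injective_iff_map_eq_zero]
  intro x hx
  obtain ⟨a, rfl⟩ := cutπ_surjective E p x
  exact (cutπ_eq_zero_iff E p a).mpr ((hE p a).mp hx)

/-- The two complementary cuts split an étale cover. -/
theorem cut_bijective {A : FEt X} (E : Idem A) (p : X.pt) :
    Function.Bijective fun a => ((cutπ E).hom.app p a, (cutπ E.compl).hom.app p a) := by
  refine ⟨fun a a' h => ?_, ?_⟩
  · have h1 := (mk_eq_mk_iff E p a a').mp (congrArg Prod.fst h)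
    have h2 := (mk_eq_mk_iff E.compl p a a').mp (congrArg Prod.snd h)
    change (1 - (1 - E.e p)) * a = (1 - (1 - E.e p)) * a' at h2
    linear_combination h1 + h2
  · rintro ⟨x, y⟩
    obtain ⟨a, rfl⟩ := cutπ_surjective E p x
    obtain ⟨b, rfl⟩ := cutπ_surjective E.compl p y
    refine ⟨(1 - E.e p) * a + E.e p * b, Prod.ext ?_ ?_⟩
    · refine (mk_eq_mk_iff E p _ a).mpr ?_
      linear_combination (b - a) * (0 : A.obj.carrier p) + ((E.idem p).eq) * (a - b)
    · refine (mk_eq_mk_iff E.compl p _ b).mpr ?_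
      show (1 - (1 - E.e p)) * _ = (1 - (1 - E.e p)) * b
      linear_combination ((E.idem p).eq) * (b - a)

/-- A surjection is a product projection. -/
theorem exists_complement (hX : X.IsFinSp) {A B : FEt X} (f : A ⟶ B)
    (hf : ∀ p : X.pt, Function.Surjective (f.hom.app p)) :
    ∃ (D : FEt X) (π : A ⟶ D), Nonempty (IsLimit (BinaryFan.mk f π)) := by
  obtain ⟨E, hE⟩ := exists_kerIdem hX f
  refine ⟨cutF E.compl, cutπ E.compl, isLimit_binaryFan f _ fun p => ?_⟩
  let L := (cutLift f E fun p a => (hE p a).mpr).hom.app p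
  have hL : Function.Bijective L := by
    refine ⟨(injective_iff_map_eq_zero L).mpr fun x hx => ?_, fun b => ?_⟩
    · obtain ⟨a, rfl⟩ := cutπ_surjective E p x
      exact (cutπ_eq_zero_iff E p a).mpr ((hE p a).mp hx)
    · obtain ⟨a, rfl⟩ := hf p b
      exact ⟨(cutπ E).hom.app p a, rfl⟩
  have : (fun a => (f.hom.app p a, (cutπ E.compl).hom.app p a)) =
      Prod.map L id ∘ fun a => ((cutπ E).hom.app p a, (cutπ E.compl).hom.app p a) := rfl
  rw [this]
  exact (hL.prodMap Function.bijective_id).comp (cut_bijective E p)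

/-- Monomorphisms are injective. -/
theorem injective_of_mono (hX : X.IsFinSp) {A B : FEt X} (f : A ⟶ B) [Mono f] (p : X.pt) :
    Function.Injective (f.hom.app p) := by
  obtain ⟨E, hE⟩ := exists_kerIdem hX f
  let F : Fin 3 → FEt X := ![cutF E, cutF E.compl, cutF E.compl]
  let T := piF F
  obtain ⟨lim⟩ := isLimit_binaryFan (cutπ E) (cutπ E.compl) (cut_bijective E)
  let t₁ : T ⟶ A := lim.lift (BinaryFan.mk (piProj F 0) (piProj F 1))
  let t₂ : T ⟶ A := lim.lift (BinaryFan.mk (piProj F 0) (piProj F 2))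
  have a1 : t₁ ≫ cutπ E = piProj F 0 := lim.fac _ ⟨WalkingPair.left⟩
  have a2 : t₂ ≫ cutπ E = piProj F 0 := lim.fac _ ⟨WalkingPair.left⟩
  have b1 : t₁ ≫ cutπ E.compl = piProj F 1 := lim.fac _ ⟨WalkingPair.right⟩
  have b2 : t₂ ≫ cutπ E.compl = piProj F 2 := lim.fac _ ⟨WalkingPair.right⟩
  have hf : t₁ ≫ f = t₂ ≫ f := by
    rw [← cutLift_comp f E fun p a => (hE p a).mpr, ← Category.assoc, ← Category.assoc, a1, a2]
  rw [cancel_mono] at hf
  have h12 : piProj F 1 = piProj F 2 := by rw [← b1, ← b2, hf]
  let x : T.obj.carrier p := Fin.cons (0 : (cutF E).obj.carrier p)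
    (Fin.cons (1 : (cutF E.compl).obj.carrier p) (Fin.cons (0 : (cutF E.compl).obj.carrier p) finZeroElim))
  have h01 : (1 : (cutF E.compl).obj.carrier p) = 0 :=
    AlgHom.congr_fun (congrFun (congrArg Alg.Hom.app (congrArg InducedCategory.Hom.hom h12)) p) x
  have hunit : IsUnit (E.compl.e p) :=
    Ideal.span_singleton_eq_top.mp ((Ideal.eq_top_iff_one _).mpr
      ((cutπ_eq_zero_iff E.compl p 1).mp ((map_one _).trans h01)))
  have he : E.compl.e p = 1 := (IsIdempotentElem.iff_eq_one_of_isUnit hunit).mp (E.compl.idem p)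
  change 1 - E.e p = 1 at he
  rw [injective_iff_map_eq_zero]
  intro a ha
  have := (hE p a).mp ha
  rwa [sub_eq_self.mp he, Ideal.span_singleton_zero, Ideal.mem_bot] at this

end Groth.Agent.SchFinLib
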