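import Groth.Agent.SchFinLib.Base

/-!
# Criteria for base change of cohomology
-/

set_option autoImplicit false
set_option linter.unusedSectionVars false

universe u

open SchFin TensorProduct

namespace Groth.Agent.SchFinLib

variable {X : RSpace.{u}} {U U' : Set X.pt} {R R' : Type u} [CommRing R] [CommRing R'] {φ : Coef X U R}
  {φ' : Coef X U' R'} (M : OMod X)

/-- Base change in degree zero from bijectivity onto sections. -/
theorem bc_of_bijective [Algebra R R'] (s : Coef.Sub φ φ') (hs : algebraMap R R' = s.hom)
    (e : R' ⊗[R] H φ M 0 →+ M.sect U') (he : Function.Bijective e)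
    (he' : ∀ (a : R') (h : H φ M 0) (q : U'),
      (e (a ⊗ₜ h)).1 q = φ'.map q a • (toSect φ M h).1 ⟨q.1, s.le q.2⟩) :
    IsBCAlong s.hom (resH M s 0) := by
  letI : Module R (H φ' M 0) := Module.compHom _ (algebraMap R R')
  haveI : IsScalarTower R R' (H φ' M 0) := IsScalarTower.of_algebraMap_smul fun _ _ => rfl
  let f' : H φ M 0 →ₗ[R] H φ' M 0 :=
    { toFun := resH M s 0, map_add' := map_add _, map_smul' := fun a h => by
        rw [LinearMap.map_smulₛₗ]
        exact congrArg (· • _) (RingHom.congr_fun hs a).symm }
  refine (isBCAlong_iff hs (resH M s 0) f' fun _ => rfl).mpr ?_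
  let T : R' ⊗[R] H φ M 0 →ₗ[R'] H φ' M 0 := f'.liftBaseChange R'
  have hT : ∀ z, toSect φ' M (T z) = e z := fun z => by
    induction z using TensorProduct.induction_on with
    | zero => simp only [map_zero]
    | add a b ha hb => simp only [map_add, ha, hb]
    | tmul a h =>
      refine Subtype.ext (funext fun q => ?_)
      rw [he']
      show (toSect φ' M (f'.liftBaseChange R' (a ⊗ₜ h))).1 q = _
      rw [LinearMap.liftBaseChange_tmul, toSect_smul]
      exact congrArg _ (toSect_resH M s h q)
  have hb : Function.Bijective T := by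
    have : Function.Bijective (toSect φ' M ∘ T) := by
      rw [show toSect φ' M ∘ T = e from funext hT]; exact he
    exact ⟨this.1.of_comp, fun c => ⟨(this.2 (toSect φ' M c)).choose,
      (toSect_bijective φ' M).1 (this.2 (toSect φ' M c)).choose_spec⟩⟩
  refine IsBaseChange.of_equiv (LinearEquiv.ofBijective T hb) fun x => ?_
  show f'.liftBaseChange R' (1 ⊗ₜ x) = _
  rw [LinearMap.liftBaseChange_tmul, one_smul]

/-- No strict chains of positive length in a subsingleton. -/
theorem subsingleton_H_succ [Subsingleton U] (n : ℕ) : Subsingleton (H φ M (n + 1)) := by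
  haveI : IsEmpty (Chain U (n + 1)) := ⟨fun σ => by
    have : σ 0 = σ 1 := Subsingleton.elim _ _
    simpa using σ.injective this⟩
  haveI : Subsingleton (Cochain φ M (n + 1)) := by
    unfold Cochain; infer_instance
  unfold H
  infer_instance

/-- Base change between vanishing cohomologies. -/
theorem bc_of_subsingleton (s : Coef.Sub φ φ') (n : ℕ) [Subsingleton (H φ M n)] [Subsingleton (H φ' M n)] :
    IsBCAlong s.hom (resH M s n) := by
  letI := s.hom.toAlgebra
  letI : Module R (H φ' M n) := Module.compHom _ (algebraMap R R')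
  haveI : IsScalarTower R R' (H φ' M n) := IsScalarTower.of_algebraMap_smul fun _ _ => rfl
  refine (isBCAlong_iff rfl (resH M s n) (0 : H φ M n →ₗ[R] H φ' M n) fun _ => Subsingleton.elim _ _).mpr ?_
  exact IsBaseChange.of_equiv (LinearEquiv.ofSubsingleton (R := R') _ _) fun _ => Subsingleton.elim _ _

end Groth.Agent.SchFinLib
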