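import Groth.Agent.SchFinLib.Pairs
import Groth.Agent.SchFinLib.BC

/-!
# Geometric points from schematic points
-/

set_option autoImplicit false
set_option linter.unusedSectionVars false

universe u

open SchFin TensorProduct

namespace Groth.Agent.SchFinLib

/-- Base change of a field along an epimorphism through which it factors. -/
theorem bijective_productMap {R A K : Type u} [CommRing R] [CommRing A] [CommRing K] [Algebra R A] [Algebra R K]
    (ψ : A →ₐ[R] K)
    (hext : ∀ (T : Type u) [CommRing T] (g₁ g₂ : A →+* T),
      g₁.comp (algebraMap R A) = g₂.comp (algebraMap R A) → g₁ = g₂) :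
    Function.Bijective (Algebra.TensorProduct.productMap ψ (AlgHom.id R K)) := by
  have hL : (Algebra.TensorProduct.includeLeftRingHom : A →+* A ⊗[R] K) =
      ((Algebra.TensorProduct.includeRight : K →ₐ[R] A ⊗[R] K).comp ψ).toRingHom := by
    refine hext _ _ _ (RingHom.ext fun r => ?_)
    exact (((Algebra.TensorProduct.includeRight : K →ₐ[R] A ⊗[R] K).comp ψ).commutes r).symm
  have hR : ∀ z : A ⊗[R] K, (Algebra.TensorProduct.includeRight : K →ₐ[R] A ⊗[R] K)
      (Algebra.TensorProduct.productMap ψ (AlgHom.id R K) z) = z := fun z => by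
    induction z using TensorProduct.induction_on with
    | zero => simp only [map_zero]
    | add a b ha hb => simp only [map_add, ha, hb]
    | tmul a k =>
      rw [Algebra.TensorProduct.productMap_apply_tmul, map_mul]
      have e := (RingHom.congr_fun hL a).symm
      change (Algebra.TensorProduct.includeRight : K →ₐ[R] A ⊗[R] K) (ψ a) = a ⊗ₜ[R] (1 : K) at e
      rw [e]
      simp
  refine ⟨fun z z' h => by rw [← hR z, h, hR z'], fun k => ⟨1 ⊗ₜ k, ?_⟩⟩
  rw [Algebra.TensorProduct.productMap_right_apply]
  rfl

variable {X : RSpace.{u}}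

/-- The geometric point at a pair at a greatest point. -/
theorem isSchematic_pointHom (hX : X.IsSchematic)
    (hff : ∀ s a b : X.pt, s ≤ a → s ≤ b → (X.up a ∩ X.up b).Nonempty →
      Module.FaithfullyFlat (X.sectRing (X.up a ∩ X.up b)) ((q : ↥(X.up a ∩ X.up b)) → X.ring q.1))
    {Ω : Type u} [Field Ω] (f : Hom (RSpace.point Ω) X) (a : X.Pair)
    (ha : ∀ b : X.Pair, X.PairRel a b → b.1 ≤ a.1) (hfn : f.fn PUnit.unit = a.1)
    (hker : (PrimeSpectrum.comap (X.res hfn.le) a.2).asIdeal = RingHom.ker (f.app PUnit.unit)) :
    f.IsSchematic := by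
  refine ⟨⟨fun _ => inferInstanceAs (IsNoetherianRing Ω), fun _ _ _ => RingHom.Flat.id Ω⟩, hX.1, ?_⟩
  intro n x x' hx y y' hy
  haveI : Subsingleton (RSpace.point Ω).pt := inferInstanceAs (Subsingleton PUnit)
  cases n with
  | succ n =>
    refine ⟨?_, ?_⟩
    · haveI := subsingleton_H_succ (φ := Coef.ofLE x (f.wedge x y) (f.wedge_subset_up x y)) (RSpace.point Ω).str n
      haveI := subsingleton_H_succ (φ := Coef.ofLE x' (f.wedge x' y) (f.wedge_subset_up x' y)) (RSpace.point Ω).str n
      exact bc_of_subsingleton _ (f.subSrc hx y) (n + 1)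
    · haveI := subsingleton_H_succ (φ := Coef.ofHom f y (f.wedge x y) (f.wedge_subset_pre x y)) (RSpace.point Ω).str n
      haveI := subsingleton_H_succ (φ := Coef.ofHom f y' (f.wedge x y') (f.wedge_subset_pre x y')) (RSpace.point Ω).str n
      exact bc_of_subsingleton _ (f.subTgt x hy) (n + 1)
  | zero =>
    refine ⟨?_, ?_⟩
    · have hxx : x = x' := Subsingleton.elim _ _
      subst hxx
      let φ := Coef.ofLE x (f.wedge x y) (f.wedge_subset_up x y)
      let e : (RSpace.point Ω).ring x ⊗[(RSpace.point Ω).ring x] H φ (RSpace.point Ω).str 0 →+ (RSpace.point Ω).str.sect (f.wedge x y) :=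
        (toSect φ (RSpace.point Ω).str).comp (TensorProduct.lid ((RSpace.point Ω).ring x) _).toAddMonoidHom
      refine bc_of_bijective _ (f.subSrc hx y) rfl e
        ((toSect_bijective φ _).comp (TensorProduct.lid ((RSpace.point Ω).ring x) _).bijective) fun b h q => ?_
      show (toSect φ _ (TensorProduct.lid ((RSpace.point Ω).ring x) _ (b ⊗ₜ h))).1 q = _
      rw [TensorProduct.lid_tmul]
      exact toSect_smul φ _ b h q
    · letI : Algebra (X.ring y) (X.ring y') := (X.res hy).toAlgebra
      let φ := Coef.ofHom f y (f.wedge x y) (f.wedge_subset_pre x y)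
      let φ' := Coef.ofHom f y' (f.wedge x y') (f.wedge_subset_pre x y')
      by_cases hy' : y' ≤ f.fn x
      · let uu : ↥(f.wedge x y) := ⟨x, le_rfl, hy.trans hy'⟩
        let uu' : ↥(f.wedge x y') := ⟨x, le_rfl, hy'⟩
        letI : Algebra (X.ring y) Ω := (φ.map uu).toAlgebra
        let ψ : X.ring y' →ₐ[X.ring y] Ω :=
          { φ'.map uu' with commutes' := fun r => (f.subTgt x hy).compat uu' r }
        have hψ := bijective_productMap ψ fun T _ g₁ g₂ hg => ringHom_ext hX hy g₁ g₂ hg
        let ρ : H φ (RSpace.point Ω).str 0 →ₗ[X.ring y] Ω :=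
          { toFun := fun c => (toSect φ (RSpace.point Ω).str c).1 uu
            map_add' := fun a b => by rw [map_add]; rfl
            map_smul' := fun a c => by rw [toSect_smul]; rfl }
        have hρ : Function.Bijective ρ := by
          refine ⟨fun h h' e => (toSect_bijective φ _).1 (Subtype.ext (funext fun q => ?_)), fun b => ?_⟩
          · obtain rfl : q = uu := Subtype.ext (Subsingleton.elim _ _)
            exact e
          · obtain ⟨c, hc⟩ := (toSect_bijective φ (RSpace.point Ω).str).2 ⟨fun _ => b, fun _ _ _ => rfl⟩
            exact ⟨c, congrFun (congrArg Subtype.val hc) uu⟩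
        let cst : Ω →+ (RSpace.point Ω).str.sect (f.wedge x y') :=
          { toFun := fun b => ⟨fun _ => b, fun _ _ _ => rfl⟩, map_zero' := rfl, map_add' := fun _ _ => rfl }
        have hcst : Function.Bijective cst := by
          refine ⟨fun b b' e => congrFun (congrArg Subtype.val e) uu', fun t => ⟨t.1 uu', Subtype.ext (funext fun q => ?_)⟩⟩
          obtain rfl : q = uu' := Subtype.ext (Subsingleton.elim _ _)
          rfl
        let T := TensorProduct.congr (LinearEquiv.refl (X.ring y) (X.ring y')) (LinearEquiv.ofBijective ρ hρ)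
        let e : X.ring y' ⊗[X.ring y] H φ (RSpace.point Ω).str 0 →+ (RSpace.point Ω).str.sect (f.wedge x y') :=
          cst.comp ((Algebra.TensorProduct.productMap ψ (AlgHom.id _ Ω)).toLinearMap.toAddMonoidHom.comp T.toAddMonoidHom)
        refine bc_of_bijective _ (f.subTgt x hy) rfl e (hcst.comp (hψ.comp T.bijective)) fun b h q => ?_
        obtain rfl : q = uu' := Subtype.ext (Subsingleton.elim _ _)
        show Algebra.TensorProduct.productMap ψ (AlgHom.id _ Ω) (b ⊗ₜ ρ h) = _
        rw [Algebra.TensorProduct.productMap_apply_tmul]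
        rfl
      · haveI : IsEmpty ↥(f.wedge x y') := ⟨fun q => hy' (by
          have : q.1 = x := Subsingleton.elim _ _
          rw [← this]; exact q.2.2)⟩
        haveI : Subsingleton ((RSpace.point Ω).str.sect (f.wedge x y')) :=
          ⟨fun a b => Subtype.ext (funext fun q => isEmptyElim q)⟩
        haveI : Subsingleton (X.ring y' ⊗[X.ring y] H φ (RSpace.point Ω).str 0) := by
          by_cases hy0 : y ≤ f.fn x
          · let uu : ↥(f.wedge x y) := ⟨x, le_rfl, hy0⟩
            letI : Algebra (X.ring y) Ω := (φ.map uu).toAlgebra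
            haveI : Subsingleton (X.ring y' ⊗[X.ring y] Ω) := by
              by_contra hne
              rw [not_subsingleton_iff_nontrivial] at hne
              obtain ⟨T⟩ := (inferInstance : Nonempty (PrimeSpectrum (X.ring y' ⊗[X.ring y] Ω)))
              let P := PrimeSpectrum.comap Algebra.TensorProduct.includeLeftRingHom T
              let iR := (Algebra.TensorProduct.includeRight (R := X.ring y) (A := X.ring y') (B := Ω))
              have hx' : f.fn x = a.1 := by
                obtain rfl : x = PUnit.unit := Subsingleton.elim _ _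
                exact hfn
              have key : PrimeSpectrum.comap (X.res hy) P = PrimeSpectrum.comap (X.res (hy0.trans hx'.le)) a.2 := by
                obtain rfl : x = PUnit.unit := Subsingleton.elim _ _
                rw [← comap_res_comp hy0 hfn.le]
                refine PrimeSpectrum.ext ?_
                rw [PrimeSpectrum.comap_asIdeal _ (PrimeSpectrum.comap (X.res hfn.le) a.2), hker]
                show (T.asIdeal.comap Algebra.TensorProduct.includeLeftRingHom).comap (algebraMap (X.ring y) (X.ring y')) =
                  (RingHom.ker (f.app PUnit.unit)).comap (X.res hy0)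
                rw [Ideal.comap_comap, RingHom.comap_ker,
                  show Algebra.TensorProduct.includeLeftRingHom.comp (algebraMap (X.ring y) (X.ring y')) =
                    iR.toRingHom.comp (algebraMap (X.ring y) Ω) from RingHom.ext fun r => (iR.commutes r).symm,
                  ← Ideal.comap_comap,
                  ((Ideal.eq_bot_or_top (T.asIdeal.comap iR.toRingHom)).resolve_right (Ideal.IsPrime.comap _).ne_top)]
                rfl
              have hrel := pairRel_of_comap_eq hX hff (hy0.trans hx'.le) hy a.2 P key.symm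
              exact hy' ((ha ⟨y', P⟩ hrel).trans hx'.ge)
            let ρ : H φ (RSpace.point Ω).str 0 →ₗ[X.ring y] Ω :=
              { toFun := fun c => (toSect φ (RSpace.point Ω).str c).1 uu
                map_add' := fun a b => by rw [map_add]; rfl
                map_smul' := fun a c => by rw [toSect_smul]; rfl }
            have hρ : Function.Bijective ρ := by
              refine ⟨fun h h' e => (toSect_bijective φ _).1 (Subtype.ext (funext fun q => ?_)), fun b => ?_⟩
              · obtain rfl : q = uu := Subtype.ext (Subsingleton.elim _ _)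
                exact e
              · obtain ⟨c, hc⟩ := (toSect_bijective φ (RSpace.point Ω).str).2 ⟨fun _ => b, fun _ _ _ => rfl⟩
                exact ⟨c, congrFun (congrArg Subtype.val hc) uu⟩
            exact (TensorProduct.congr (LinearEquiv.refl (X.ring y) (X.ring y'))
              (LinearEquiv.ofBijective ρ hρ)).toEquiv.subsingleton
          · haveI : IsEmpty ↥(f.wedge x y) := ⟨fun q => hy0 (by
              have : q.1 = x := Subsingleton.elim _ _
              rw [← this]; exact q.2.2)⟩
            haveI : Subsingleton (H φ (RSpace.point Ω).str 0) :=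
              ⟨fun a b => (toSect_bijective φ _).1 (Subtype.ext (funext fun q => isEmptyElim q))⟩
            infer_instance
        refine bc_of_bijective _ (f.subTgt x hy) rfl 0 ⟨fun _ _ _ => Subsingleton.elim _ _,
          fun t => ⟨0, Subsingleton.elim _ _⟩⟩ fun b h q => isEmptyElim q

/-- A pair at a greatest point and a point of its residue field give a unique geometric point. -/
theorem existsUnique_geomPt (hX : X.IsSchematic)
    (hff : ∀ s a b : X.pt, s ≤ a → s ≤ b → (X.up a ∩ X.up b).Nonempty →
      Module.FaithfullyFlat (X.sectRing (X.up a ∩ X.up b)) ((q : ↥(X.up a ∩ X.up b)) → X.ring q.1))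
    (Ω : Type u) [Field Ω] [IsAlgClosed Ω] (a : X.Pair) (ha : ∀ b : X.Pair, X.PairRel a b → b.1 ≤ a.1)
    (φ : a.κ →+* Ω) :
    ∃! ξ : GeomPt X Ω, (⟨ξ.base, ξ.toField⟩ : Σ x : X.pt, (X.ring x →+* Ω)) =
      ⟨a.1, φ.comp (algebraMap (X.ring a.1) a.κ)⟩ := by
  let f : Hom (RSpace.point Ω) X :=
    { fn := fun _ => a.1
      mono := fun _ _ _ => le_refl _
      app := fun _ => φ.comp (algebraMap (X.ring a.1) a.κ)
      compat := fun _ b => by
        show φ (algebraMap _ _ b) = φ (algebraMap _ _ (X.res _ b))
        rw [X.res_self] }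
  have hf : f.IsSchematic := by
    refine isSchematic_pointHom hX hff f a ha rfl ?_
    rw [comap_res_self]
    show a.2.asIdeal = RingHom.ker (φ.comp (algebraMap (X.ring a.1) a.κ))
    rw [RingHom.ker_comp_of_injective _ φ.injective, Ideal.ker_algebraMap_residueField]
  refine ⟨⟨f, hf⟩, rfl, ?_⟩
  rintro ⟨g, hg⟩ h
  have h1 := congrArg Sigma.fst h
  obtain ⟨fn, mono, app, compat⟩ := g
  change fn PUnit.unit = a.1 at h1
  have hfn : fn = fun _ => a.1 := funext fun q => h1
  subst hfn
  have hap : app = fun _ => φ.comp (algebraMap (X.ring a.1) a.κ) := funext fun q => eq_of_heq (Sigma.mk.inj h).2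
  subst hap
  rfl

end Groth.Agent.SchFinLib
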