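import Groth.Agent.SchFinLib.FixAlg
import Groth.Agent.SchFinLib.Cat

/-!
# Invariants of finite families of endomorphisms of an étale cover
-/

set_option autoImplicit false
set_option linter.unusedSectionVars false

universe u

open SchFin TensorProduct CategoryTheory CategoryTheory.Limits Opposite

namespace Groth.Agent.SchFinLib

variable {X : RSpace.{u}} {A : FEt X} {G : Type u} (σ : G → (A ⟶ A))

/-- The invariant algebra. -/
noncomputable def fixAlg : Alg X where
  carrier p := fixSub fun g => (σ g).hom.app p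
  res {p q} h := ((A.obj.res h).comp (fixSub fun g => (σ g).hom.app p).val.toRingHom).codRestrict
    (fixSub fun g => (σ g).hom.app q).toSubring fun a g => by
      show (σ g).hom.app q (A.obj.res h a.1) = A.obj.res h a.1
      rw [← (σ g).hom.compat, a.2 g]
  res_algebraMap h r := Subtype.ext (A.obj.res_algebraMap h r)
  res_self p b := Subtype.ext (A.obj.res_self p b.1)
  res_comp h h' b := Subtype.ext (A.obj.res_comp h h' b.1)

variable [Finite G] (hX : X.IsFinSp)
  (hlt : ∃ (B : Alg X) (n : ℕ), B.IsCovering ∧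
    ∀ p : X.pt, Nonempty (TensorProduct (X.ring p) (B.carrier p) (A.obj.carrier p) ≃ₐ[B.carrier p] (Fin n → B.carrier p)))

include hX in
theorem fixAlg_qcoh : (fixAlg σ).IsQcoh := by
  refine isQcoh_of_bijective _ fun p q h _ _ _ ha => ?_
  letI : Algebra (X.ring p) (A.obj.carrier q) :=
    ((algebraMap (X.ring q) (A.obj.carrier q)).comp (algebraMap (X.ring p) (X.ring q))).toAlgebra
  haveI : IsScalarTower (X.ring p) (X.ring q) (A.obj.carrier q) := IsScalarTower.of_algebraMap_eq fun _ => rfl
  haveI : Module.Flat (X.ring p) (X.ring q) := by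
    have := hX.2 p q h
    rw [← ha] at this
    exact RingHom.flat_algebraMap_iff.mp this
  let τ := fun g => (σ g).hom.app p
  have hA := bijective_qHom A.obj h ha A.property.1
  have hfix := fixBC_bijective τ (X.ring q)
  have hcomm : ∀ g z, qHom A.obj h ha (Algebra.TensorProduct.map (AlgHom.id (X.ring q) (X.ring q)) (τ g) z) =
      (σ g).hom.app q (qHom A.obj h ha z) := fun g z => by
    induction z using TensorProduct.induction_on with
    | zero => simp only [map_zero]
    | add a b ha' hb' => simp only [map_add, ha', hb']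
    | tmul r a =>
      rw [Algebra.TensorProduct.map_tmul, qHom_tmul, qHom_tmul, map_smul ((σ g).hom.app q), (σ g).hom.compat]
      rfl
  have hval : ∀ z : X.ring q ⊗[X.ring p] fixSub τ,
      (qHom (fixAlg σ) h ha z).1 = qHom A.obj h ha (fixBC τ (X.ring q) z).1 := fun z => by
    induction z using TensorProduct.induction_on with
    | zero =>
      rw [map_zero (fixBC τ (X.ring q)), ZeroMemClass.coe_zero, map_zero]
      exact congrArg Subtype.val (map_zero (qHom (fixAlg σ) h ha))
    | add a b ha' hb' =>
      rw [map_add (fixBC τ (X.ring q)), Subalgebra.coe_add, map_add, ← ha', ← hb']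
      exact congrArg Subtype.val (map_add (qHom (fixAlg σ) h ha) a b)
    | tmul r a =>
      refine (congrArg Subtype.val (qHom_tmul (fixAlg σ) h ha r a)).trans ?_
      show r • A.obj.res h a.1 = qHom A.obj h ha (r ⊗ₜ a.1)
      rw [qHom_tmul]
  refine ⟨fun z z' hz => hfix.1 (Subtype.ext (hA.1 ?_)), fun y => ?_⟩
  · rw [← hval, ← hval]; exact congrArg Subtype.val hz
  · obtain ⟨w, hw⟩ := hA.2 y.1
    have hwfix : w ∈ fixSub (fun g => Algebra.TensorProduct.map (AlgHom.id (X.ring q) (X.ring q)) (τ g)) := fun g => by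
      refine hA.1 ?_
      rw [hcomm, hw]
      exact y.2 g
    obtain ⟨z, hz⟩ := hfix.2 ⟨w, hwfix⟩
    refine ⟨z, Subtype.ext ((hval z).trans ?_)⟩
    rw [hz, hw]

include hX hlt in
theorem fixAlg_isEtCover : (fixAlg σ).IsEtCover := by
  refine ⟨fixAlg_qcoh σ hX, fun p => ?_⟩
  obtain ⟨B, n, hB, he⟩ := hlt
  haveI := etCover_finite A p
  haveI := hX.1 p
  haveI := (hB.2 p).2
  obtain ⟨e⟩ := he p
  have h1 : Module.Finite (X.ring p) (fixSub fun g => (σ g).hom.app p) := by
    haveI : IsNoetherian (X.ring p) (A.obj.carrier p) := isNoetherian_of_isNoetherianRing_of_finite _ _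
    exact Module.Finite.of_injective (fixSub fun g => (σ g).hom.app p).val.toLinearMap Subtype.val_injective
  exact ⟨h1, etale_fix (fun g => (σ g).hom.app p) (B.carrier p) e⟩

/-- The invariant étale cover. -/
noncomputable def fixF : FEt X := ⟨fixAlg σ, fixAlg_isEtCover σ hX hlt⟩

/-- The inclusion of the invariants. -/
noncomputable def fixInc : fixF σ hX hlt ⟶ A :=
  ObjectProperty.homMk { app := fun p => (fixSub fun g => (σ g).hom.app p).val, compat := fun _ _ => rfl }

lemma fixInc_comp (g : G) : fixInc σ hX hlt ≫ σ g = fixInc σ hX hlt :=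
  fet_hom_ext fun _ a => a.2 g

lemma fixInc_injective (p : X.pt) : Function.Injective ((fixInc σ hX hlt).hom.app p) := Subtype.val_injective

/-- Lifting into the invariants. -/
noncomputable def fixLift {T : FEt X} (t : T ⟶ A) (ht : ∀ g, t ≫ σ g = t) : T ⟶ fixF σ hX hlt :=
  ObjectProperty.homMk
    { app := fun p => (t.hom.app p).codRestrict (fixSub fun g => (σ g).hom.app p) fun a g =>
        AlgHom.congr_fun (congrFun (congrArg Alg.Hom.app (congrArg InducedCategory.Hom.hom (ht g))) p) a
      compat := fun h b => Subtype.ext (t.hom.compat h b) }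

lemma fixLift_inc {T : FEt X} (t : T ⟶ A) (ht : ∀ g, t ≫ σ g = t) : fixLift σ hX hlt t ht ≫ fixInc σ hX hlt = t :=
  fet_hom_ext fun _ _ => rfl

lemma fix_hom_ext {T : FEt X} {t t' : T ⟶ fixF σ hX hlt} (h : t ≫ fixInc σ hX hlt = t' ≫ fixInc σ hX hlt) : t = t' :=
  fet_hom_ext fun p a => Subtype.ext
    (AlgHom.congr_fun (congrFun (congrArg Alg.Hom.app (congrArg InducedCategory.Hom.hom h)) p) a)

theorem hasLimit_singleObj {G : Type u} [Group G] [Finite G] (hX : X.IsFinSp)
    (hlt : ∀ A : FEt X, ∃ (B : Alg X) (n : ℕ), B.IsCovering ∧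
      ∀ p : X.pt, Nonempty (TensorProduct (X.ring p) (B.carrier p) (A.obj.carrier p) ≃ₐ[B.carrier p] (Fin n → B.carrier p))) :
    HasLimitsOfShape (SingleObj G) (FEt X) := by
  refine ⟨fun K => ⟨⟨?_⟩⟩⟩
  let s : G → (K.obj (SingleObj.star G) ⟶ K.obj (SingleObj.star G)) := fun g =>
    K.map (X := SingleObj.star G) (Y := SingleObj.star G) g
  let c : Cone K :=
    { pt := fixF s hX (hlt _)
      π := { app := fun _ => fixInc s hX (hlt _)
             naturality := fun i j g => by
               change 𝟙 _ ≫ fixInc s hX (hlt _) = fixInc s hX (hlt _) ≫ s g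
               rw [Category.id_comp, fixInc_comp] } }
  exact
    { cone := c
      isLimit :=
        { lift := fun t => fixLift s hX (hlt _) (t.π.app (SingleObj.star G)) fun g =>
            t.w (j := SingleObj.star G) (j' := SingleObj.star G) g
          fac := fun t _ => fixLift_inc s hX (hlt _) _ _
          uniq := fun t m hm => fix_hom_ext s hX (hlt _) ((hm (SingleObj.star G)).trans (fixLift_inc s hX (hlt _) _ _).symm) } }

end Groth.Agent.SchFinLib
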