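import Groth.Agent.SchFinLib.Ker

/-!
# Injective maps of equal rank
-/

set_option autoImplicit false
set_option linter.unusedSectionVars false

universe u

open SchFin TensorProduct CategoryTheory

namespace Groth.Agent.SchFinLib

/-- An injective map of finite étale algebras of equal rank is bijective. -/
theorem surjective_of_rank_eq {R A B : Type u} [CommRing R] [CommRing A] [CommRing B] [Algebra R A] [Algebra R B]
    [Algebra A B] [IsScalarTower R A B] [Module.Finite R A] [Module.Finite R B] [Algebra.Etale R A]
    [Algebra.Etale R B] (hinj : Function.Injective (algebraMap A B))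
    (hrk : ∀ P : PrimeSpectrum R, Module.rankAtStalk A P = Module.rankAtStalk B P) :
    Function.Surjective (algebraMap A B) := by
  haveI : Module.Finite A B := Module.Finite.of_restrictScalars_finite R A B
  haveI : Algebra.Etale A B := Algebra.Etale.of_restrictScalars R A B
  haveI : Module.FaithfullyFlat A B := faithfullyFlat_of_injective hinj
  haveI : Module.Flat R A := Algebra.Smooth.flat R A
  haveI : Module.Flat R B := Algebra.Smooth.flat R B
  let fl : A →ₗ[R] B := (IsScalarTower.toAlgHom R A B).toLinearMap
  let Q := B ⧸ LinearMap.range fl
  haveI : Module.Finite R Q := inferInstance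
  suffices Subsingleton Q by
    intro b
    exact (Submodule.Quotient.mk_eq_zero _).mp (Subsingleton.elim (Submodule.Quotient.mk b : Q) 0)
  rw [← Module.support_eq_empty_iff (R := R), Set.eq_empty_iff_forall_notMem]
  intro P
  rw [Module.mem_support_iff_nontrivial_residueField_tensorProduct, not_nontrivial_iff_subsingleton]
  let k := P.asIdeal.ResidueField
  -- injectivity on the fibre
  have hr : Function.Injective (fl.rTensor k) := by
    let ι : A ⊗[R] k →ₗ[A] B ⊗[A] (A ⊗[R] k) := TensorProduct.mk A B (A ⊗[R] k) 1
    have hι : Function.Injective ι := Module.FaithfullyFlat.tensorProduct_mk_injective (A := A) (B := B) (A ⊗[R] k)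
    let c := TensorProduct.AlgebraTensorModule.cancelBaseChange R A A B k
    have : (fl.rTensor k : _ → _) = c ∘ ι := by
      funext z
      induction z using TensorProduct.induction_on with
      | zero => simp only [Function.comp_apply, map_zero]
      | add x y hx hy => simp only [Function.comp_apply, map_add] at hx hy ⊢; rw [hx, hy]
      | tmul a t => simp [ι, c, fl, Algebra.smul_def]
    rw [this]
    exact c.injective.comp hι
  let F : k ⊗[R] A →ₗ[k] k ⊗[R] B := fl.baseChange k
  have hF : Function.Injective F := by
    have : (F : _ → _) = (TensorProduct.comm R B k) ∘ fl.rTensor k ∘ (TensorProduct.comm R k A) := by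
      funext z
      induction z using TensorProduct.induction_on with
      | zero => simp only [Function.comp_apply, map_zero]
      | add x y hx hy => simp only [Function.comp_apply, map_add] at hx hy ⊢; rw [hx, hy]
      | tmul t a => simp [F]
    rw [this]
    exact (TensorProduct.comm R B k).injective.comp (hr.comp (TensorProduct.comm R k A).injective)
  have hFs : Function.Surjective F := by
    refine (LinearMap.injective_iff_surjective_of_finrank_eq_finrank ?_).mp hF
    have h1 := Module.rankAtStalk_eq (R := R) (M := A) P
    have h2 := Module.rankAtStalk_eq (R := R) (M := B) P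
    exact h1.symm.trans ((hrk P).trans h2)
  have hq := LinearMap.lTensor_surjective k (Submodule.mkQ_surjective (LinearMap.range fl))
  refine ⟨fun x y => ?_⟩
  have h0 : ∀ z : k ⊗[R] B, (LinearMap.range fl).mkQ.lTensor k z = 0 := fun z => by
    obtain ⟨w, rfl⟩ := hFs z
    show (LinearMap.range fl).mkQ.lTensor k (fl.lTensor k w) = 0
    rw [← LinearMap.lTensor_comp_apply, show (LinearMap.range fl).mkQ.comp fl = 0 from LinearMap.range_mkQ_comp fl,
      LinearMap.lTensor_zero]
    rfl
  obtain ⟨x, rfl⟩ := hq x
  obtain ⟨y, rfl⟩ := hq y
  rw [h0, h0]

variable {X : RSpace.{u}}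

theorem isIso_of_rank_eq {A B : FEt X} (f : A ⟶ B) (hf : ∀ p : X.pt, Function.Injective (f.hom.app p))
    (hdeg : ∀ (p : X.pt) (P : PrimeSpectrum (X.ring p)),
      Module.rankAtStalk (A.obj.carrier p) P = Module.rankAtStalk (B.obj.carrier p) P) : IsIso f :=
  isIso_of_bijective f fun p => ⟨hf p, by
    haveI := etCover_finite A p
    haveI := etCover_etale A p
    haveI : Module.Finite (X.ring p) (Cod f p) := etCover_finite B p
    haveI : Algebra.Etale (X.ring p) (Cod f p) := etCover_etale B p
    exact surjective_of_rank_eq (R := X.ring p) (A := A.obj.carrier p) (B := Cod f p) (hf p) (hdeg p)⟩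

end Groth.Agent.SchFinLib
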