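import Groth.Agent.SchFinLib.Fibre
import Groth.Agent.SchFinLib.RankIso
import Groth.Agent.SchFinLib.Connected

/-!
# The fibre functor reflects isomorphisms
-/

set_option autoImplicit false
set_option linter.unusedSectionVars false

universe u

open SchFin TensorProduct CategoryTheory CategoryTheory.Limits Opposite

namespace Groth.Agent.SchFinLib

/-- Over an algebraically closed field the points of an étale algebra count its dimension. -/
theorem card_primeSpectrum_etale (Ω B : Type u) [Field Ω] [IsAlgClosed Ω] [CommRing B] [Algebra Ω B]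
    [Algebra.Etale Ω B] [Module.Finite Ω B] : Nat.card (PrimeSpectrum B) = Module.finrank Ω B := by
  haveI : IsArtinianRing B := IsArtinianRing.of_finite Ω B
  haveI : IsReduced B := Algebra.FormallyUnramified.isReduced_of_field Ω B
  haveI : Fintype (MaximalSpectrum B) := Fintype.ofFinite _
  have h1 : ∀ I : MaximalSpectrum B, Module.finrank Ω (B ⧸ I.asIdeal) = 1 := fun I => by
    haveI := I.isMaximal
    haveI : IsDomain (B ⧸ I.asIdeal) := Ideal.Quotient.isDomain _
    haveI : Module.Finite Ω (B ⧸ I.asIdeal) := Module.Finite.trans B (B ⧸ I.asIdeal)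
    have e : Ω ≃ₗ[Ω] (B ⧸ I.asIdeal) := LinearEquiv.ofBijective (Algebra.linearMap Ω _)
      (IsAlgClosed.algebraMap_bijective_of_isIntegral (k := Ω) (K := B ⧸ I.asIdeal))
    rw [← e.finrank_eq, Module.finrank_self]
  let e : B ≃ₗ[Ω] (∀ I : MaximalSpectrum B, B ⧸ I.asIdeal) :=
    ((IsArtinianRing.equivPi B).restrictScalars Ω).toLinearEquiv
  rw [e.finrank_eq, Module.finrank_pi_fintype, Finset.sum_congr rfl (fun I _ => h1 I), Finset.sum_const,
    Finset.card_univ, smul_eq_mul, mul_one, ← Nat.card_eq_fintype_card,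
    Nat.card_congr IsArtinianRing.primeSpectrumEquivMaximalSpectrum]

variable {X : RSpace.{u}}

/-- The rank of an étale cover is constant on a well-connected space. -/
theorem rank_const (hwc : X.IsWellConnected) (A : FEt X) (p q : X.pt) (P : PrimeSpectrum (X.ring p))
    (Q : PrimeSpectrum (X.ring q)) :
    Module.rankAtStalk (A.obj.carrier p) P = Module.rankAtStalk (A.obj.carrier q) Q := by
  obtain ⟨⟨-, ht⟩, hpw⟩ := wellConnected_iff.mp hwc
  have hloc : ∀ (p : X.pt) (P P' : PrimeSpectrum (X.ring p)),
      Module.rankAtStalk (A.obj.carrier p) P = Module.rankAtStalk (A.obj.carrier p) P' := fun p P P' => by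
    haveI := hpw p
    haveI := etCover_finite A p
    haveI := etCover_etale A p
    haveI : Module.Flat (X.ring p) (A.obj.carrier p) := Algebra.Smooth.flat _ _
    haveI := Module.FinitePresentation.of_finite_of_finitePresentation (X.ring p) (A.obj.carrier p)
    exact (Module.isLocallyConstant_rankAtStalk (R := X.ring p) (M := A.obj.carrier p)).apply_eq_of_preconnectedSpace P P'
  let n : X.pt → ℕ := fun p => Module.rankAtStalk (A.obj.carrier p) (Classical.choice (hpw p).toNonempty)
  have hn : ∀ a b : X.pt, a ≤ b → n a = n b := fun a b h => by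
    letI := (X.res h).toAlgebra
    letI : Algebra (X.ring a) (A.obj.carrier b) := ((algebraMap (X.ring b) (A.obj.carrier b)).comp (X.res h)).toAlgebra
    haveI : IsScalarTower (X.ring a) (X.ring b) (A.obj.carrier b) := IsScalarTower.of_algebraMap_eq fun _ => rfl
    haveI := etCover_finite A a
    haveI := etCover_etale A a
    haveI : Module.Flat (X.ring a) (A.obj.carrier a) := Algebra.Smooth.flat _ _
    let e := AlgEquiv.ofBijective _ (bijective_qHom A.obj h rfl A.property.1)
    show _ = Module.rankAtStalk (A.obj.carrier b) _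
    rw [← Module.rankAtStalk_eq_of_equiv e.toLinearEquiv, Module.rankAtStalk_baseChange]
    exact hloc a _ _
  exact (hloc p P _).trans ((eq_of_eqvGen n hn (ht p q)).trans (hloc q _ Q))

variable {Ω : Type u} [Field Ω] [IsAlgClosed Ω] (ξ : GeomPt X Ω)

/-- The fibre counts the rank. -/
theorem card_fib (hwc : X.IsWellConnected) (A : FEt X) (p : X.pt) (P : PrimeSpectrum (X.ring p)) :
    Nat.card (ξ.Fib A.obj) = Module.rankAtStalk (A.obj.carrier p) P := by
  letI := fldAlg ξ
  haveI := etCover_finite A ξ.base
  haveI := etCover_etale A ξ.base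
  haveI : Module.Flat (X.ring ξ.base) (A.obj.carrier ξ.base) := Algebra.Smooth.flat _ _
  let B := Ω ⊗[X.ring ξ.base] A.obj.carrier ξ.base
  refine (card_primeSpectrum_etale Ω B).trans ?_
  have h1 : Module.rankAtStalk B (⊥ : PrimeSpectrum Ω) = Module.finrank Ω B :=
    congrFun (Module.rankAtStalk_eq_finrank_of_free (R := Ω) (M := B)) _
  rw [← h1]
  exact (Module.rankAtStalk_baseChange (R := X.ring ξ.base) (M := A.obj.carrier ξ.base) _).trans
    (rank_const hwc A _ _ _ _)

theorem injective_of_fibre_surjective (hX : X.IsFinSp) (hwc : X.IsWellConnected) {A B : FEt X} (f : A ⟶ B)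
    (hs : Function.Surjective (ξ.fibMap f.hom)) (p : X.pt) : Function.Injective (f.hom.app p) := by
  letI := fldAlg ξ
  obtain ⟨E, hE⟩ := exists_kerIdem hX f
  let D := cutF E.compl
  -- no point of the source kills the complement
  have hempty : IsEmpty (ξ.Fib D.obj) := by
    refine ⟨fun x => ?_⟩
    obtain ⟨χ, rfl⟩ := (ptEquiv ξ D).surjective x
    obtain ⟨y, hy⟩ := hs (ptEquiv ξ A (χ.comp ((cutπ E.compl).hom.app ξ.base)))
    obtain ⟨φ, rfl⟩ := (ptEquiv ξ B).surjective y
    rw [ptEquiv_comp] at hy
    have hy' := (ptEquiv ξ A).injective hy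
    have h1 : φ (f.hom.app ξ.base (E.e ξ.base)) = 0 := by
      rw [(hE _ _).mpr (Ideal.mem_span_singleton_self _), map_zero]
    have h2 : (cutπ E.compl).hom.app ξ.base (E.e ξ.base) = 1 := by
      rw [← map_one ((cutπ E.compl).hom.app ξ.base)]
      refine (mk_eq_mk_iff E.compl ξ.base _ 1).mpr ?_
      show (1 - (1 - E.e ξ.base)) * E.e ξ.base = (1 - (1 - E.e ξ.base)) * 1
      rw [sub_sub_cancel, mul_one, (E.idem ξ.base).eq]
    have h3 := AlgHom.congr_fun hy' (E.e ξ.base)
    change φ (f.hom.app ξ.base (E.e ξ.base)) = χ ((cutπ E.compl).hom.app ξ.base (E.e ξ.base)) at h3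
    rw [h1, h2, map_one] at h3
    exact zero_ne_one h3
  haveI : Subsingleton (D.obj.carrier p) := by
    haveI := etCover_finite D p
    haveI := etCover_etale D p
    haveI : Module.Flat (X.ring p) (D.obj.carrier p) := Algebra.Smooth.flat _ _
    rw [← Module.rankAtStalk_eq_zero_iff_subsingleton (R := X.ring p)]
    funext P
    rw [← card_fib ξ hwc D p P, Nat.card_of_isEmpty]
    rfl
  have hunit : IsUnit (E.compl.e p) :=
    Ideal.span_singleton_eq_top.mp ((Ideal.eq_top_iff_one _).mpr
      ((cutπ_eq_zero_iff E.compl p 1).mp (Subsingleton.elim _ _)))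
  have he : E.compl.e p = 1 := (IsIdempotentElem.iff_eq_one_of_isUnit hunit).mp (E.compl.idem p)
  change 1 - E.e p = 1 at he
  rw [injective_iff_map_eq_zero]
  intro a ha
  have := (hE p a).mp ha
  rwa [sub_eq_self.mp he, Ideal.span_singleton_zero, Ideal.mem_bot] at this

theorem reflectsIso (hX : X.IsFinSp) (hwc : X.IsWellConnected) : ξ.fibFunctor.ReflectsIsomorphisms := by
  refine ⟨fun {A B} f _ => ?_⟩
  have hb : Function.Bijective (ξ.fibMap f.unop.hom) := by
    refine Function.bijective_iff_has_inverse.mpr ⟨inv (ξ.fibFunctor.map f), fun x => ?_, fun y => ?_⟩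
    · exact ConcreteCategory.congr_hom (IsIso.hom_inv_id (ξ.fibFunctor.map f)) x
    · exact ConcreteCategory.congr_hom (IsIso.inv_hom_id (ξ.fibFunctor.map f)) y
  haveI : IsIso f.unop := isIso_of_rank_eq f.unop (injective_of_fibre_surjective ξ hX hwc f.unop hb.2) fun p P => by
    rw [← card_fib ξ hwc B.unop p P, ← card_fib ξ hwc A.unop p P]
    exact (Nat.card_congr (Equiv.ofBijective _ hb)).symm
  exact (inferInstance : IsIso f.unop.op)

end Groth.Agent.SchFinLib
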