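import Groth.Agent.SchFinLib.Invariants
import Groth.Agent.SchFinLib.Reflect

/-!
# Étale covers form a Galois category
-/

set_option autoImplicit false
set_option linter.unusedSectionVars false

universe u

open SchFin TensorProduct CategoryTheory CategoryTheory.Limits Opposite

namespace Groth.Agent.SchFinLib

variable {X : RSpace.{u}} (hX : X.IsFinSp)
  (hlt : ∀ A : FEt X, ∃ (B : Alg X) (n : ℕ), B.IsCovering ∧
    ∀ p : X.pt, Nonempty (TensorProduct (X.ring p) (B.carrier p) (A.obj.carrier p) ≃ₐ[B.carrier p] (Fin n → B.carrier p)))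

section quotient
variable {G : Type u} [Group G] [Finite G] (K : SingleObj G ⥤ (FEt X)ᵒᵖ)

/-- The endomorphisms of the underlying étale cover. -/
noncomputable def opAct (g : G) : (K.obj (SingleObj.star G)).unop ⟶ (K.obj (SingleObj.star G)).unop :=
  (K.map (X := SingleObj.star G) (Y := SingleObj.star G) g).unop

lemma opAct_one : opAct K 1 = 𝟙 _ := congrArg Quiver.Hom.unop (K.map_id (SingleObj.star G))

lemma opAct_mul (g h : G) : opAct K g ≫ opAct K h = opAct K (g * h) :=
  (congrArg Quiver.Hom.unop (K.map_comp (X := SingleObj.star G) (Y := SingleObj.star G) (Z := SingleObj.star G) h g)).symm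

/-- The quotient cocone. -/
noncomputable def quotCocone : Cocone K where
  pt := op (fixF (opAct K) hX (hlt _))
  ι :=
    { app := fun _ => (fixInc (opAct K) hX (hlt _)).op
      naturality := fun i j g => by
        change K.map g ≫ _ = (fixInc (opAct K) hX (hlt _)).op ≫ 𝟙 _
        rw [Category.comp_id]
        exact Quiver.Hom.unop_inj (fixInc_comp (opAct K) hX (hlt _) g) }

/-- The quotient cocone is a colimit. -/
noncomputable def isColimitQuot : IsColimit (quotCocone hX hlt K) where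
  desc t := (fixLift (opAct K) hX (hlt _) (t.ι.app (SingleObj.star G)).unop fun g =>
    congrArg Quiver.Hom.unop (t.w (j := SingleObj.star G) (j' := SingleObj.star G) g)).op
  fac t _ := Quiver.Hom.unop_inj (fixLift_inc (opAct K) hX (hlt _) (t.ι.app (SingleObj.star G)).unop (fun g => congrArg Quiver.Hom.unop (t.w (j := SingleObj.star G) (j' := SingleObj.star G) g)))
  uniq t m hm := Quiver.Hom.unop_inj (fix_hom_ext (opAct K) hX (hlt _)
    ((congrArg Quiver.Hom.unop (hm (SingleObj.star G))).trans (fixLift_inc (opAct K) hX (hlt _) (t.ι.app (SingleObj.star G)).unop (fun g => congrArg Quiver.Hom.unop (t.w (j := SingleObj.star G) (j' := SingleObj.star G) g))).symm))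

end quotient

include hX hlt in
theorem preGalois (hepi : ∀ (A B : FEt X) (f : A ⟶ B), Epi f → ∀ p : X.pt, Function.Surjective (f.hom.app p)) :
    PreGaloisCategory (FEt X)ᵒᵖ where
  hasTerminal := (terminalOpOfInitial (isInitialStr X)).hasTerminal
  hasPullbacks := @hasPullbacks_of_hasLimit_cospan _ _ fun {_ _ _ f g} => ⟨⟨⟨_, isLimitPullOp f g⟩⟩⟩
  hasFiniteCoproducts := ⟨fun n => ⟨fun K => by
    haveI : HasColimit (Discrete.functor (K.obj ∘ Discrete.mk)) := ⟨⟨⟨_, isColimitCofanOp (K.obj ∘ Discrete.mk)⟩⟩⟩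
    exact hasColimit_of_iso Discrete.natIsoFunctor⟩⟩
  hasQuotientsByFiniteGroups G _ _ := ⟨fun K => ⟨⟨⟨_, isColimitQuot hX hlt K⟩⟩⟩⟩
  monoInducesIsoOnDirectSummand {A B} i _ := by
    obtain ⟨D, π, ⟨lim⟩⟩ := exists_complement hX i.unop (hepi _ _ i.unop inferInstance)
    refine ⟨op D, π.op, ⟨BinaryCofan.IsColimit.mk _ (fun a b => (lim.lift (BinaryFan.mk a.unop b.unop)).op)
      (fun a b => Quiver.Hom.unop_inj (lim.fac (BinaryFan.mk a.unop b.unop) ⟨WalkingPair.left⟩))
      (fun a b => Quiver.Hom.unop_inj (lim.fac (BinaryFan.mk a.unop b.unop) ⟨WalkingPair.right⟩))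
      fun a b m h1 h2 => Quiver.Hom.unop_inj (BinaryFan.IsLimit.hom_ext lim
        ((congrArg Quiver.Hom.unop h1).trans (lim.fac (BinaryFan.mk a.unop b.unop) ⟨WalkingPair.left⟩).symm)
        ((congrArg Quiver.Hom.unop h2).trans (lim.fac (BinaryFan.mk a.unop b.unop) ⟨WalkingPair.right⟩).symm))⟩⟩

include hX hlt in
theorem preservesQuotient {Ω : Type u} [Field Ω] [IsAlgClosed Ω] (ξ : GeomPt X Ω) (G : Type u) [Group G] [Finite G] :
    PreservesColimitsOfShape (SingleObj G) ξ.fibFunctor := by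
  refine ⟨fun {K} => preservesColimit_of_preserves_colimit_cocone (isColimitQuot hX hlt K) (Nonempty.some ?_)⟩
  letI := fldAlg ξ
  let A := (K.obj (SingleObj.star G)).unop
  let σ := fun g => (opAct K g).hom.app ξ.base
  let I := fixInc (opAct K) hX (hlt A)
  haveI := etCover_finite A ξ.base
  refine isQuotient_fintype _ _ (fun y => ?_) fun x y hxy => ?_
  · obtain ⟨φ, rfl⟩ := (ptEquiv ξ (fixF (opAct K) hX (hlt A))).surjective y
    haveI := Cod.finite I ξ.base
    haveI := Cod.etale I ξ.base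
    haveI : Module.FaithfullyFlat ((fixF (opAct K) hX (hlt A)).obj.carrier ξ.base) (Cod I ξ.base) :=
      faithfullyFlat_of_injective (fixInc_injective (opAct K) hX (hlt A) ξ.base)
    obtain ⟨ψ, hψ⟩ := exists_extension (R := X.ring ξ.base)
      (A := (fixF (opAct K) hX (hlt A)).obj.carrier ξ.base) (B := Cod I ξ.base) φ
    refine ⟨ptEquiv ξ A ψ, (fibre_map_pt ξ I.op ψ).trans (congrArg _ ?_)⟩
    exact AlgHom.ext fun a => AlgHom.congr_fun hψ a
  · obtain ⟨φ, rfl⟩ := (ptEquiv ξ A).surjective x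
    obtain ⟨ψ, rfl⟩ := (ptEquiv ξ A).surjective y
    have heq := (ptEquiv ξ (fixF (opAct K) hX (hlt A))).injective
      ((fibre_map_pt ξ I.op φ).symm.trans (hxy.trans (fibre_map_pt ξ I.op ψ)))
    obtain ⟨g, hg⟩ := exists_conj σ ⟨1, by show (opAct K 1).hom.app ξ.base = _; rw [opAct_one]; rfl⟩
      (fun h => ⟨Equiv.mulRight h, fun g => by
        show ((opAct K h).hom.app ξ.base).comp ((opAct K g).hom.app ξ.base) = (opAct K (g * h)).hom.app ξ.base
        rw [← opAct_mul]
        rfl⟩) φ ψ fun a ha => AlgHom.congr_fun heq ⟨a, ha⟩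
    exact ⟨g, (fibre_map_pt ξ (K.map (X := SingleObj.star G) (Y := SingleObj.star G) g) φ).trans (congrArg _ hg)⟩

include hX hlt in
theorem exists_fiberFunctor (hwc : X.IsWellConnected)
    (hepi : ∀ (A B : FEt X) (f : A ⟶ B), Epi f → ∀ p : X.pt, Function.Surjective (f.hom.app p))
    {Ω : Type u} [Field Ω] [IsAlgClosed Ω] (ξ : GeomPt X Ω) :
    ∃ h : PreGaloisCategory (FEt X)ᵒᵖ, @PreGaloisCategory.FiberFunctor (FEt X)ᵒᵖ _ h ξ.fibFunctor :=
  ⟨preGalois hX hlt hepi,
    @PreGaloisCategory.FiberFunctor.mk _ _ (preGalois hX hlt hepi) _ (preservesTerminal ξ) (preservesPullbacks ξ)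
      (preservesFiniteCoproducts ξ) (preservesEpis ξ hX) (fun G _ _ => preservesQuotient hX hlt ξ G)
      (reflectsIso ξ hX hwc)⟩

end Groth.Agent.SchFinLib
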