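import Mathlib

/-!
# Limits and colimits of finite sets by elements
-/

set_option autoImplicit false

universe u

open CategoryTheory CategoryTheory.Limits

namespace Groth.Agent.SchFinLib

theorem isTerminal_fintype (T : FintypeCat.{u}) (h : Nonempty (Unique T)) : Nonempty (IsTerminal T) :=
  let ⟨u⟩ := h
  ⟨IsTerminal.ofUniqueHom (fun _ => FintypeCat.homMk fun _ => u.default) fun _ m =>
    FintypeCat.hom_ext _ _ fun x => @Subsingleton.elim _ u.instSubsingleton (m x) u.default⟩

theorem isPullback_fintype {P X Y Z : FintypeCat.{u}} (f : X ⟶ Z) (g : Y ⟶ Z) (a : P ⟶ X) (b : P ⟶ Y)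
    (w : a ≫ f = b ≫ g) (h : ∀ x y, f x = g y → ∃! p : P, a p = x ∧ b p = y) :
    Nonempty (IsLimit (PullbackCone.mk a b w)) := by
  refine ⟨PullbackCone.IsLimit.mk w (fun s => FintypeCat.homMk fun t =>
    (h (s.fst t) (s.snd t) (ConcreteCategory.congr_hom s.condition t)).choose) (fun s => ?_) (fun s => ?_) fun s m h1 h2 => ?_⟩
  · exact FintypeCat.hom_ext _ _ fun t => (h (s.fst t) (s.snd t) (ConcreteCategory.congr_hom s.condition t)).choose_spec.1.1
  · exact FintypeCat.hom_ext _ _ fun t => (h (s.fst t) (s.snd t) (ConcreteCategory.congr_hom s.condition t)).choose_spec.1.2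
  · exact FintypeCat.hom_ext _ _ fun t => (h (s.fst t) (s.snd t) (ConcreteCategory.congr_hom s.condition t)).choose_spec.2 (m t)
      ⟨ConcreteCategory.congr_hom h1 t, ConcreteCategory.congr_hom h2 t⟩

theorem isCofan_fintype {ι : Type} (M : ι → FintypeCat.{u}) (P : FintypeCat.{u}) (inj : ∀ i, M i ⟶ P)
    (h : Function.Bijective fun x : Σ i, M i => inj x.1 x.2) :
    Nonempty (IsColimit (Cofan.mk P inj)) := by
  let e := Equiv.ofBijective _ h
  refine ⟨mkCofanColimit _ (fun s => FintypeCat.homMk fun p => s.inj (e.symm p).1 (e.symm p).2) (fun s i => ?_)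
    fun s m hm => ?_⟩
  · refine FintypeCat.hom_ext _ _ fun x => ?_
    show s.inj (e.symm (e ⟨i, x⟩)).1 (e.symm (e ⟨i, x⟩)).2 = s.inj i x
    rw [Equiv.symm_apply_apply]
  · refine FintypeCat.hom_ext _ _ fun p => ?_
    obtain ⟨⟨i, x⟩, rfl⟩ := e.surjective p
    show m (e ⟨i, x⟩) = s.inj (e.symm (e ⟨i, x⟩)).1 (e.symm (e ⟨i, x⟩)).2
    rw [Equiv.symm_apply_apply]
    exact ConcreteCategory.congr_hom (hm i) x

theorem epi_fintype {X Y : FintypeCat.{u}} (f : X ⟶ Y) (h : Function.Surjective f) : Epi f :=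
  ⟨fun g g' e => FintypeCat.hom_ext _ _ fun y => by
    obtain ⟨x, rfl⟩ := h y
    exact ConcreteCategory.congr_hom e x⟩

/-- A quotient by a group action is a colimit over the one object category. -/
theorem isQuotient_fintype {G : Type u} [Group G] (K : SingleObj G ⥤ FintypeCat.{u}) (c : Cocone K)
    (hs : Function.Surjective (c.ι.app (SingleObj.star G)))
    (ho : ∀ x y, c.ι.app (SingleObj.star G) x = c.ι.app (SingleObj.star G) y →
      ∃ g : G, K.map (X := SingleObj.star G) (Y := SingleObj.star G) g x = y) :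
    Nonempty (IsColimit c) := by
  choose inv hinv using hs
  refine ⟨{
    desc := fun s => FintypeCat.homMk fun p => s.ι.app (SingleObj.star G) (inv p)
    fac := fun s j => FintypeCat.hom_ext _ _ fun x => ?_
    uniq := fun s m hm => FintypeCat.hom_ext _ _ fun p => ?_ }⟩
  · show s.ι.app (SingleObj.star G) (inv (c.ι.app j x)) = s.ι.app j x
    obtain ⟨g, hg⟩ := ho (inv (c.ι.app j x)) x (hinv (c.ι.app j x))
    exact (ConcreteCategory.congr_hom (s.w (j := SingleObj.star G) (j' := SingleObj.star G) g) _).symm.trans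
      (congrArg (s.ι.app (SingleObj.star G)) hg)
  · show m p = s.ι.app (SingleObj.star G) (inv p)
    rw [← hm (SingleObj.star G)]
    exact congrArg m (hinv p).symm

end Groth.Agent.SchFinLib
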