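import Groth.Agent.SchFinLib.Points2
import Groth.Agent.SchFinLib.FinSets
import Groth.Agent.SchFinLib.Push

/-!
# The fibre functor: terminal object, pullbacks, coproducts, epimorphisms
-/

set_option autoImplicit false
set_option linter.unusedSectionVars false

universe u

open SchFin TensorProduct CategoryTheory CategoryTheory.Limits Opposite

namespace Groth.Agent.SchFinLib

variable {X : RSpace.{u}} {Ω : Type u} [Field Ω] [IsAlgClosed Ω] (ξ : GeomPt X Ω)

/-- The field as an algebra over the ring of the base point. -/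
@[reducible] noncomputable def fldAlg : Algebra (X.ring ξ.base) Ω := ξ.toField.toAlgebra

attribute [local instance] fldAlg

/-- Points of an étale cover over a geometric point. -/
abbrev Pt (A : FEt X) : Type u := A.obj.carrier ξ.base →ₐ[X.ring ξ.base] Ω

/-- Points and fibre elements. -/
noncomputable def ptEquiv (A : FEt X) : Pt ξ A ≃ ξ.Fib A.obj :=
  haveI := etCover_finite A ξ.base
  Equiv.ofBijective (fun φ => (ptPrime φ : ξ.Fib A.obj))
    (ptPrime_bijective (R := X.ring ξ.base) (A := A.obj.carrier ξ.base) (Ω := Ω))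

lemma ptEquiv_comp {A B : FEt X} (f : A ⟶ B) (φ : Pt ξ B) :
    ξ.fibMap f.hom (ptEquiv ξ B φ) = ptEquiv ξ A (φ.comp (f.hom.app ξ.base)) :=
  comap_ptPrime (f.hom.app ξ.base) φ

lemma map_apply {A B : (FEt X)ᵒᵖ} (f : A ⟶ B) (x : ξ.fibFunctor.obj A) :
    ξ.fibFunctor.map f x = ξ.fibMap f.unop.hom x := rfl

lemma fibre_map_pt {A B : (FEt X)ᵒᵖ} (f : A ⟶ B) (φ : Pt ξ A.unop) :
    ξ.fibFunctor.map f (ptEquiv ξ A.unop φ) = ptEquiv ξ B.unop (φ.comp (f.unop.hom.app ξ.base)) :=
  ptEquiv_comp ξ f.unop φ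

theorem preservesTerminal : PreservesLimitsOfShape (Discrete PEmpty.{1}) ξ.fibFunctor := by
  have hu : Nonempty (Unique (ξ.fibFunctor.obj (op (strF X)))) := by
    refine ⟨@Equiv.unique _ _ ?_ (ptEquiv ξ (strF X)).symm⟩
    exact { default := (Algebra.ofId (X.ring ξ.base) Ω : X.ring ξ.base →ₐ[X.ring ξ.base] Ω),
            uniq := fun φ => AlgHom.ext fun a => (φ.commutes a) }
  obtain ⟨hT⟩ := isTerminal_fintype _ hu
  haveI : PreservesLimit (Functor.empty.{0} (FEt X)ᵒᵖ) ξ.fibFunctor :=
    preservesLimit_of_preserves_limit_cone (terminalOpOfInitial (isInitialStr X))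
      ((isLimitMapConeEmptyConeEquiv ξ.fibFunctor (op (strF X))).symm hT)
  exact preservesLimitsOfShape_pempty_of_preservesTerminal ξ.fibFunctor

/-- The pullback in the opposite category. -/
noncomputable def isLimitPullOp {A B C : (FEt X)ᵒᵖ} (f : A ⟶ C) (g : B ⟶ C) :
    IsLimit (PullbackCone.mk (f := f) (g := g) (pushInl f.unop g.unop).op (pushInr f.unop g.unop).op
      (Quiver.Hom.unop_inj (push_condition f.unop g.unop))) :=
  PullbackCone.IsLimit.mk _
    (fun s => (pushDesc f.unop g.unop s.fst.unop s.snd.unop (congrArg Quiver.Hom.unop s.condition)).op)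
    (fun s => Quiver.Hom.unop_inj ((isColimitPush f.unop g.unop).fac
      (PushoutCocone.mk s.fst.unop s.snd.unop (congrArg Quiver.Hom.unop s.condition)) WalkingSpan.left))
    (fun s => Quiver.Hom.unop_inj ((isColimitPush f.unop g.unop).fac
      (PushoutCocone.mk s.fst.unop s.snd.unop (congrArg Quiver.Hom.unop s.condition)) WalkingSpan.right))
    fun s m h1 h2 => Quiver.Hom.unop_inj (PushoutCocone.IsColimit.hom_ext (isColimitPush f.unop g.unop)
      ((congrArg Quiver.Hom.unop h1).trans ((isColimitPush f.unop g.unop).fac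
        (PushoutCocone.mk s.fst.unop s.snd.unop (congrArg Quiver.Hom.unop s.condition)) WalkingSpan.left).symm)
      ((congrArg Quiver.Hom.unop h2).trans ((isColimitPush f.unop g.unop).fac
        (PushoutCocone.mk s.fst.unop s.snd.unop (congrArg Quiver.Hom.unop s.condition)) WalkingSpan.right).symm))

theorem existsUnique_pt_push {A B C : FEt X} (f : A ⟶ B) (g : A ⟶ C) (φ : Pt ξ B) (ψ : Pt ξ C)
    (h : φ.comp (f.hom.app ξ.base) = ψ.comp (g.hom.app ξ.base)) :
    ∃! χ : Pt ξ (pushF f g), χ.comp ((pushInl f g).hom.app ξ.base) = φ ∧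
      χ.comp ((pushInr f g).hom.app ξ.base) = ψ := by
  letI : Algebra (A.obj.carrier ξ.base) Ω := (φ.comp (f.hom.app ξ.base)).toRingHom.toAlgebra
  haveI : IsScalarTower (X.ring ξ.base) (A.obj.carrier ξ.base) Ω :=
    IsScalarTower.of_algebraMap_eq fun r => ((φ.comp (f.hom.app ξ.base)).commutes r).symm
  let P : Cod f ξ.base →ₐ[A.obj.carrier ξ.base] Ω :=
    { (show Cod f ξ.base →+* Ω from φ.toRingHom) with commutes' := fun _ => rfl }
  let S : Cod g ξ.base →ₐ[A.obj.carrier ξ.base] Ω :=
    { (show Cod g ξ.base →+* Ω from ψ.toRingHom) with commutes' := fun a => (AlgHom.congr_fun h a).symm }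
  let χ : Cod f ξ.base ⊗[A.obj.carrier ξ.base] Cod g ξ.base →ₐ[X.ring ξ.base] Ω :=
    (Algebra.TensorProduct.productMap P S).restrictScalars (X.ring ξ.base)
  refine ⟨χ, ⟨AlgHom.ext fun b => ?_, AlgHom.ext fun c => ?_⟩, fun χ' h' => ?_⟩
  · show φ b * ψ (1 : C.obj.carrier ξ.base) = φ b
    rw [map_one, mul_one]
  · show φ (1 : B.obj.carrier ξ.base) * ψ c = ψ c
    rw [map_one, one_mul]
  · have h1 := h'.1
    have h2 := h'.2
    refine AlgHom.ext fun z => ?_
    change Cod f ξ.base ⊗[A.obj.carrier ξ.base] Cod g ξ.base at z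
    induction z using TensorProduct.induction_on with
    | zero => exact (map_zero χ').trans (map_zero χ).symm
    | add x y hx hy => exact (map_add χ' x y).trans ((congrArg₂ (· + ·) hx hy).trans (map_add χ x y).symm)
    | tmul b c =>
      show χ' _ = φ b * ψ c
      refine ((congrArg χ' ?_).trans (map_mul χ' ((pushInl f g).hom.app ξ.base b) ((pushInr f g).hom.app ξ.base c))).trans
        (congrArg₂ (· * ·) (AlgHom.congr_fun h1 b) (AlgHom.congr_fun h2 c))
      exact ((Algebra.TensorProduct.tmul_mul_tmul (R := A.obj.carrier ξ.base) _ _ _ _).trans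
        (congrArg₂ (· ⊗ₜ[A.obj.carrier ξ.base] ·) (mul_one _) (one_mul _))).symm

theorem preservesPullbacks : PreservesLimitsOfShape WalkingCospan ξ.fibFunctor := by
  refine ⟨fun {K} => ?_⟩
  have key : ∀ {A B C : (FEt X)ᵒᵖ} (f : A ⟶ C) (g : B ⟶ C), PreservesLimit (cospan f g) ξ.fibFunctor := by
    intro A B C f g
    have w : ξ.fibFunctor.map (pushInl f.unop g.unop).op ≫ ξ.fibFunctor.map f =
        ξ.fibFunctor.map (pushInr f.unop g.unop).op ≫ ξ.fibFunctor.map g := by
      rw [← ξ.fibFunctor.map_comp, ← ξ.fibFunctor.map_comp]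
      exact congrArg _ (Quiver.Hom.unop_inj (push_condition f.unop g.unop))
    obtain ⟨hl⟩ := isPullback_fintype (ξ.fibFunctor.map f) (ξ.fibFunctor.map g) _ _ w fun x y hxy => by
      obtain ⟨φ, rfl⟩ := (ptEquiv ξ A.unop).surjective x
      obtain ⟨ψ, rfl⟩ := (ptEquiv ξ B.unop).surjective y
      rw [fibre_map_pt, fibre_map_pt] at hxy
      obtain ⟨χ, hχ, hu⟩ := existsUnique_pt_push ξ f.unop g.unop φ ψ ((ptEquiv ξ C.unop).injective hxy)
      refine ⟨ptEquiv ξ (pushF f.unop g.unop) χ, ⟨?_, ?_⟩, fun p hp => ?_⟩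
      · exact (fibre_map_pt ξ (pushInl f.unop g.unop).op χ).trans (congrArg _ hχ.1)
      · exact (fibre_map_pt ξ (pushInr f.unop g.unop).op χ).trans (congrArg _ hχ.2)
      · obtain ⟨χ', rfl⟩ := (ptEquiv ξ (pushF f.unop g.unop)).surjective p
        rw [hu χ' ⟨(ptEquiv ξ A.unop).injective ((fibre_map_pt ξ (pushInl f.unop g.unop).op χ').symm.trans hp.1),
          (ptEquiv ξ B.unop).injective ((fibre_map_pt ξ (pushInr f.unop g.unop).op χ').symm.trans hp.2)⟩]
    exact preservesLimit_of_preserves_limit_cone (isLimitPullOp f g)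
      ((isLimitMapConePullbackConeEquiv ξ.fibFunctor _).symm hl)
  haveI := key (K.map WalkingCospan.Hom.inl) (K.map WalkingCospan.Hom.inr)
  exact preservesLimit_of_iso_diagram _ (diagramIsoCospan K).symm

/-- Coproducts in the opposite category. -/
noncomputable def isColimitCofanOp {ι : Type} [Finite ι] (F : ι → (FEt X)ᵒᵖ) :
    IsColimit (Cofan.mk (op (piF fun i => (F i).unop)) fun i => (piProj (fun i => (F i).unop) i).op) :=
  mkCofanColimit _ (fun s => (piLift (fun i => (F i).unop) fun i => (s.inj i).unop).op)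
    (fun _ _ => Quiver.Hom.unop_inj (fet_hom_ext fun _ _ => rfl))
    fun _ m hm => Quiver.Hom.unop_inj (fet_hom_ext fun p a => funext fun i =>
      AlgHom.congr_fun (congrFun (congrArg Alg.Hom.app (congrArg InducedCategory.Hom.hom
        (congrArg Quiver.Hom.unop (hm i)))) p) a)

theorem preservesFiniteCoproducts : PreservesFiniteCoproducts ξ.fibFunctor := by
  refine ⟨fun n => ⟨fun {K} => ?_⟩⟩
  let F : Fin n → (FEt X)ᵒᵖ := K.obj ∘ Discrete.mk
  haveI : PreservesColimit (Discrete.functor F) ξ.fibFunctor := by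
    refine preservesColimit_of_preserves_colimit_cocone (isColimitCofanOp F) ?_
    refine (isColimitMapCoconeCofanMkEquiv ξ.fibFunctor _ _).symm (Nonempty.some ?_)
    refine isCofan_fintype _ _ _ ?_
    let G := fun i => (F i).unop
    let eS : (Σ i, Pt ξ (G i)) ≃ Σ i, ξ.fibFunctor.obj (F i) := Equiv.sigmaCongrRight fun i => ptEquiv ξ (G i)
    have hcomp : (fun x : Σ i, ξ.fibFunctor.obj (F i) => ξ.fibFunctor.map (piProj G x.1).op x.2) ∘ eS =
        ptEquiv ξ (piF G) ∘ fun x : Σ i, Pt ξ (G i) =>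
          (x.2.comp (Pi.evalAlgHom (X.ring ξ.base) (fun i => (G i).obj.carrier ξ.base) x.1) : Pt ξ (piF G)) := by
      funext x
      exact fibre_map_pt ξ (piProj G x.1).op x.2
    refine (Function.Bijective.of_comp_iff _ eS.bijective).mp ?_
    rw [hcomp]
    exact (ptEquiv ξ (piF G)).bijective.comp (point_pi fun i => (G i).obj.carrier ξ.base)
  exact preservesColimit_of_iso_diagram _ Discrete.natIsoFunctor.symm

theorem preservesEpis (hX : X.IsFinSp) : ξ.fibFunctor.PreservesEpimorphisms := by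
  refine ⟨fun {A B} f _ => epi_fintype _ fun y => ?_⟩
  obtain ⟨φ, rfl⟩ := (ptEquiv ξ B.unop).surjective y
  haveI := Cod.finite f.unop ξ.base
  haveI := Cod.etale f.unop ξ.base
  haveI : Module.FaithfullyFlat (B.unop.obj.carrier ξ.base) (Cod f.unop ξ.base) :=
    faithfullyFlat_of_injective (injective_of_mono hX f.unop ξ.base)
  obtain ⟨ψ, hψ⟩ := exists_extension (R := X.ring ξ.base) (A := B.unop.obj.carrier ξ.base) (B := Cod f.unop ξ.base) φ
  refine ⟨ptEquiv ξ A.unop ψ, (fibre_map_pt ξ f ψ).trans (congrArg _ ?_)⟩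
  exact AlgHom.ext fun a => AlgHom.congr_fun hψ a

end Groth.Agent.SchFinLib
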