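import Groth.Agent.SchFinLib.Base

/-!
# Schematic finite spaces: epimorphisms, stalks, pairs and geometric points
-/

set_option autoImplicit false
set_option linter.unusedSectionVars false

universe u

open SchFin TensorProduct

namespace Groth.Agent.SchFinLib

/-- A surjection of local rings induces a surjection of residue fields. -/
theorem surjective_residueFieldMap {A B : Type u} [CommRing A] [CommRing B] (I : Ideal A) [I.IsPrime]
    (J : Ideal B) [J.IsPrime] (f : A →+* B) (hf : I = J.comap f)
    (hs : Function.Surjective (Localization.localRingHom (J.comap f) J f rfl)) :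
    Function.Surjective (Ideal.ResidueField.map I J f hf) := by
  subst hf
  exact Ideal.Quotient.lift_surjective_of_surjective _ _ (Ideal.Quotient.mk_surjective.comp hs)

/-- A prime of a tensor product over two primes with the same contraction. -/
theorem exists_prime_tensor {R A B : Type u} [CommRing R] [CommRing A] [CommRing B] [Algebra R A] [Algebra R B]
    (P : PrimeSpectrum A) (Q : PrimeSpectrum B)
    (hPQ : PrimeSpectrum.comap (algebraMap R A) P = PrimeSpectrum.comap (algebraMap R B) Q) :
    ∃ T : PrimeSpectrum (A ⊗[R] B),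
      PrimeSpectrum.comap Algebra.TensorProduct.includeLeftRingHom T = P ∧
      PrimeSpectrum.comap (Algebra.TensorProduct.includeRight (R := R) (A := A)).toRingHom T = Q := by
  let p := PrimeSpectrum.comap (algebraMap R A) P
  let k := p.asIdeal.ResidueField
  let K := P.asIdeal.ResidueField
  let L := Q.asIdeal.ResidueField
  letI : Algebra k K := (Ideal.ResidueField.map p.asIdeal P.asIdeal (algebraMap R A) rfl).toAlgebra
  letI : Algebra k L := (Ideal.ResidueField.map p.asIdeal Q.asIdeal (algebraMap R B)
    (congrArg PrimeSpectrum.asIdeal hPQ)).toAlgebra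
  haveI : Nontrivial (K ⊗[k] L) :=
    (Algebra.TensorProduct.includeLeft_injective (S := k) (A := K) (B := L)
      (algebraMap k L).injective).nontrivial
  obtain ⟨M⟩ := (inferInstance : Nonempty (PrimeSpectrum (K ⊗[k] L)))
  let iK : K →+* K ⊗[k] L := Algebra.TensorProduct.includeLeftRingHom
  let iL : L →+* K ⊗[k] L := (Algebra.TensorProduct.includeRight (R := k) (A := K)).toRingHom
  let gA : A →+* K ⊗[k] L := iK.comp (algebraMap A K)
  let gB : B →+* K ⊗[k] L := iL.comp (algebraMap B L)
  have hg : ∀ r, gB (algebraMap R B r) = gA (algebraMap R A r) := fun r => by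
    have hK : algebraMap A K (algebraMap R A r) = algebraMap k K (algebraMap R k r) :=
      (Ideal.ResidueField.map_algebraMap p.asIdeal P.asIdeal (algebraMap R A) rfl r).symm
    have hL : algebraMap B L (algebraMap R B r) = algebraMap k L (algebraMap R k r) :=
      (Ideal.ResidueField.map_algebraMap p.asIdeal Q.asIdeal (algebraMap R B) _ r).symm
    show iL (algebraMap B L _) = iK (algebraMap A K _)
    rw [hK, hL]
    exact ((Algebra.TensorProduct.includeRight (R := k) (A := K) (B := L)).commutes _).trans rfl
  letI : Algebra R (K ⊗[k] L) := (gA.comp (algebraMap R A)).toAlgebra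
  let GA : A →ₐ[R] K ⊗[k] L := { gA with commutes' := fun _ => rfl }
  let GB : B →ₐ[R] K ⊗[k] L := { gB with commutes' := hg }
  let ψ := (Algebra.TensorProduct.productMap GA GB).toRingHom
  refine ⟨M.comap ψ, ?_, ?_⟩
  · have h1 : ψ.comp Algebra.TensorProduct.includeLeftRingHom = gA := RingHom.ext fun a => by
      show Algebra.TensorProduct.productMap GA GB (a ⊗ₜ 1) = _
      rw [Algebra.TensorProduct.productMap_left_apply]
      rfl
    refine PrimeSpectrum.ext ?_
    show ((M.asIdeal.comap ψ).comap Algebra.TensorProduct.includeLeftRingHom) = P.asIdeal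
    rw [Ideal.comap_comap, h1]
    show ((M.asIdeal.comap iK).comap (algebraMap A K)) = _
    rw [((Ideal.eq_bot_or_top (M.asIdeal.comap iK)).resolve_right (Ideal.IsPrime.comap iK).ne_top)]
    exact Ideal.ker_algebraMap_residueField P.asIdeal
  · have h1 : ψ.comp (Algebra.TensorProduct.includeRight (R := R) (A := A)).toRingHom = gB := RingHom.ext fun b => by
      show Algebra.TensorProduct.productMap GA GB (1 ⊗ₜ b) = _
      rw [Algebra.TensorProduct.productMap_right_apply]
      rfl
    refine PrimeSpectrum.ext ?_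
    show ((M.asIdeal.comap ψ).comap _) = Q.asIdeal
    rw [Ideal.comap_comap, h1]
    show ((M.asIdeal.comap iL).comap (algebraMap B L)) = _
    rw [((Ideal.eq_bot_or_top (M.asIdeal.comap iL)).resolve_right (Ideal.IsPrime.comap iL).ne_top)]
    exact Ideal.ker_algebraMap_residueField Q.asIdeal

variable {X : RSpace.{u}}

/-- The degree zero schematic condition: the tensor product over a common smaller point. -/
theorem exists_tensor_sections (hX : X.IsSchematic) {s x y : X.pt} (hx : s ≤ x) (hy : s ≤ y)
    [Algebra (X.ring s) (X.ring x)] [Algebra (X.ring s) (X.ring y)]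
    (hax : algebraMap (X.ring s) (X.ring x) = X.res hx) (hay : algebraMap (X.ring s) (X.ring y) = X.res hy) :
    ∃ e : X.ring x ⊗[X.ring s] X.ring y →+* X.sectRing (X.up x ∩ X.up y), Function.Bijective e ∧
      ∀ a b (q : ↥(X.up x ∩ X.up y)), (e (a ⊗ₜ b)).1 q = X.res q.2.1 a * X.res q.2.2 b := by
  set W := X.up x ∩ X.up y
  let f : Hom X X := Hom.id X
  let Lx : X.ring x →+* X.sectRing W := X.resSect x W Set.inter_subset_left
  let Ly : X.ring y →+* X.sectRing W := X.resSect y W Set.inter_subset_right
  letI : Algebra (X.ring s) (X.sectRing W) := (Lx.comp (X.res hx)).toAlgebra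
  have cx : ∀ r, Lx (algebraMap (X.ring s) (X.ring x) r) = Lx (X.res hx r) := fun r => by rw [hax]
  have cy : ∀ r, Ly (algebraMap (X.ring s) (X.ring y) r) = Lx (X.res hx r) := fun r => by
    rw [hay]
    refine Subtype.ext (funext fun q => ?_)
    exact (X.res_comp hy q.2.2 r).trans (X.res_comp hx q.2.1 r).symm
  let Lx' : X.ring x →ₐ[X.ring s] X.sectRing W := { Lx with commutes' := cx }
  let Ly' : X.ring y →ₐ[X.ring s] X.sectRing W := { Ly with commutes' := cy }
  let e := (Algebra.TensorProduct.productMap Lx' Ly').toRingHom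
  have he : ∀ a b (q : ↥W), (e (a ⊗ₜ b)).1 q = X.res q.2.1 a * X.res q.2.2 b := fun a b q => by
    show ((Algebra.TensorProduct.productMap Lx' Ly') (a ⊗ₜ b)).1 q = _
    rw [Algebra.TensorProduct.productMap_apply_tmul]
    rfl
  refine ⟨e, ?_, he⟩
  let φ := Coef.ofLE s (f.wedge s y) (f.wedge_subset_up s y)
  obtain ⟨e₀, he₀, he₀'⟩ := bc_tensor (φ := φ) X.str (f.subSrc hx y) hax (hX.2.2 0 s x hx y y le_rfl).1
  let yy : ↥(f.wedge s y) := ⟨y, hy, le_rfl⟩
  let ρ : H φ X.str 0 →ₗ[X.ring s] X.ring y :=
    { toFun := fun h => (toSect φ X.str h).1 yy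
      map_add' := fun a b => by rw [map_add]; rfl
      map_smul' := fun a h => by
        rw [toSect_smul, RingHom.id_apply, Algebra.smul_def, hay]
        rfl }
  have hρ : Function.Bijective ρ := by
    refine ⟨fun h h' e' => (toSect_bijective φ X.str).1 (Subtype.ext (funext fun q => ?_)), fun b => ?_⟩
    · have h1 := (toSect φ X.str h).2 yy q q.2.2
      have h2 := (toSect φ X.str h').2 yy q q.2.2
      rw [← h1, ← h2]
      exact congrArg _ e'
    · obtain ⟨h, hh⟩ := (toSect_bijective φ X.str).2
        ⟨fun q => X.res q.2.2 b, fun q q' hq => X.res_comp _ _ b⟩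
      refine ⟨h, ?_⟩
      show (toSect φ X.str h).1 yy = b
      rw [hh]
      exact X.res_self y b
  let T := TensorProduct.congr (LinearEquiv.refl (X.ring s) (X.ring x)) (LinearEquiv.ofBijective ρ hρ)
  have key : ∀ z : X.ring x ⊗[X.ring s] H φ X.str 0, (e₀ z).1 = (e (T z)).1 := by
    intro z
    induction z using TensorProduct.induction_on with
    | zero => simp only [map_zero]; rfl
    | add a b ha hb => simp only [map_add]; exact congrArg₂ (· + ·) ha hb
    | tmul a h =>
      funext q
      rw [he₀']
      show _ = (e (a ⊗ₜ ρ h)).1 q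
      rw [he]
      show X.res _ a * _ = X.res _ a * X.res _ ((toSect φ X.str h).1 yy)
      congr 1
      exact ((toSect φ X.str h).2 yy ⟨q.1, hx.trans q.2.1, q.2.2⟩ q.2.2).symm
  constructor
  · intro z z' hzz
    obtain ⟨w, rfl⟩ := T.surjective z
    obtain ⟨w', rfl⟩ := T.surjective z'
    exact congrArg T (he₀.1 (Subtype.ext ((key w).trans ((congrArg Subtype.val hzz).trans (key w').symm))))
  · intro t
    obtain ⟨w, hw⟩ := he₀.2 ⟨t.1, t.2⟩
    exact ⟨T w, Subtype.ext ((key w).symm.trans (congrArg Subtype.val hw))⟩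

/-- Restrictions are epimorphisms. -/
theorem isEpi (hX : X.IsSchematic) {x y : X.pt} (h : x ≤ y) [Algebra (X.ring x) (X.ring y)]
    (ha : algebraMap (X.ring x) (X.ring y) = X.res h) : Algebra.IsEpi (X.ring x) (X.ring y) := by
  obtain ⟨e, he, he'⟩ := exists_tensor_sections hX h h ha ha
  refine (Algebra.isEpi_iff_forall_one_tmul_eq _ _).mpr fun b => he.1 (Subtype.ext (funext fun q => ?_))
  rw [he', he', map_one, one_mul, mul_one]

/-- Ring maps out of a larger point are determined on the smaller one. -/
theorem ringHom_ext (hX : X.IsSchematic) {x y : X.pt} (h : x ≤ y)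
    {T : Type u} [CommRing T] (g₁ g₂ : X.ring y →+* T) (hg : g₁.comp (X.res h) = g₂.comp (X.res h)) :
    g₁ = g₂ := by
  letI := (X.res h).toAlgebra
  letI : Algebra (X.ring x) T := (g₁.comp (X.res h)).toAlgebra
  haveI := isEpi hX h rfl
  let G₁ : X.ring y →ₐ[X.ring x] T := { g₁ with commutes' := fun _ => rfl }
  let G₂ : X.ring y →ₐ[X.ring x] T := { g₂ with commutes' := fun r => (RingHom.congr_fun hg r).symm }
  ext b
  have := congrArg (Algebra.TensorProduct.productMap G₁ G₂)
    (((Algebra.isEpi_iff_forall_one_tmul_eq _ _).mp inferInstance) b)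
  rw [Algebra.TensorProduct.productMap_apply_tmul, Algebra.TensorProduct.productMap_apply_tmul, map_one, map_one,
    one_mul, mul_one] at this
  exact this.symm

theorem flat_res (hX : X.IsSchematic) {x y : X.pt} (h : x ≤ y) : (X.res h).Flat := hX.1.2 x y h

/-- A faithfully flat epimorphism of rings is bijective. -/
theorem bijective_of_isEpi_of_faithfullyFlat (R S : Type u) [CommRing R] [CommRing S] [Algebra R S]
    [Algebra.IsEpi R S] [Module.FaithfullyFlat R S] : Function.Bijective (algebraMap R S) := by
  have hb : Function.Bijective (algebraMap S (S ⊗[R] S)) := by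
    constructor
    · intro a b e
      have := congrArg (Algebra.TensorProduct.lmul' R (S := S)) e
      simpa using this
    · intro t
      refine ⟨Algebra.TensorProduct.lmul' R t, ?_⟩
      induction t using TensorProduct.induction_on with
      | zero => simp
      | add a b ha hb => rw [map_add, map_add, ha, hb]
      | tmul a b =>
        rw [Algebra.TensorProduct.lmul'_apply_tmul, Algebra.TensorProduct.algebraMap_apply]
        have e := ((Algebra.isEpi_iff_forall_one_tmul_eq _ _).mp ‹Algebra.IsEpi R S›) b
        have := congrArg (fun z : S ⊗[R] S => (a ⊗ₜ[R] (1 : S)) * z) e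
        simp only [Algebra.TensorProduct.tmul_mul_tmul, mul_one, one_mul] at this
        exact this.symm
  exact RingHom.FaithfullyFlat.codescendsAlong_bijective.algebraMap_tensorProduct _ R S S
    (RingHom.faithfullyFlat_algebraMap_iff.mpr inferInstance) hb

/-- Local rings do not change along restrictions. -/
theorem bijective_localRingHom (hX : X.IsSchematic) {x y : X.pt} (h : x ≤ y) (P : Ideal (X.ring y)) [P.IsPrime] :
    Function.Bijective (Localization.localRingHom (P.comap (X.res h)) P (X.res h) rfl) := by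
  let R := Localization.AtPrime (P.comap (X.res h))
  let S := Localization.AtPrime P
  let g : R →+* S := Localization.localRingHom (P.comap (X.res h)) P (X.res h) rfl
  letI := g.toAlgebra
  haveI : IsLocalHom (algebraMap R S) := Localization.isLocalHom_localRingHom _ _ _ _
  haveI : Module.Flat R S := by
    have := RingHom.Flat.localRingHom (flat_res hX h) P (P.comap (X.res h)) rfl
    exact this
  haveI : Module.FaithfullyFlat R S := Module.FaithfullyFlat.of_flat_of_isLocalHom
  haveI : Algebra.IsEpi R S := by
    refine (Algebra.isEpi_iff_forall_one_tmul_eq _ _).mpr ?_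
    have : (Algebra.TensorProduct.includeLeftRingHom : S →+* S ⊗[R] S) =
        (Algebra.TensorProduct.includeRight : S →ₐ[R] S ⊗[R] S).toRingHom := by
      refine IsLocalization.ringHom_ext P.primeCompl (ringHom_ext hX h _ _ ?_)
      ext r
      simp only [RingHom.comp_apply]
      have e : algebraMap (X.ring y) S (X.res h r) = algebraMap R S (algebraMap (X.ring x) R r) :=
        (Localization.localRingHom_to_map _ _ _ rfl r).symm
      rw [e]
      exact ((Algebra.TensorProduct.includeRight : S →ₐ[R] S ⊗[R] S).commutes _).symm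
    exact fun b => (RingHom.congr_fun this b).symm
  exact bijective_of_isEpi_of_faithfullyFlat R S

/-- Residue fields do not change along restrictions. -/
theorem bijective_κMap (hX : X.IsSchematic) (a b : X.Pair) (h : a.1 ≤ b.1)
    (hp : PrimeSpectrum.comap (X.res h) b.2 = a.2) : Function.Bijective (RSpace.Pair.κMap a b h hp) := by
  refine ⟨(RSpace.Pair.κMap a b h hp).injective, ?_⟩
  exact surjective_residueFieldMap _ _ _ _ (bijective_localRingHom hX h b.2.asIdeal).2

/-- Pairs with the same contraction to a common smaller point are related. -/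
theorem pairRel_of_comap_eq (hX : X.IsSchematic)
    (hff : ∀ s a b : X.pt, s ≤ a → s ≤ b → (X.up a ∩ X.up b).Nonempty →
      Module.FaithfullyFlat (X.sectRing (X.up a ∩ X.up b)) ((q : ↥(X.up a ∩ X.up b)) → X.ring q.1))
    {s x y : X.pt} (hx : s ≤ x) (hy : s ≤ y) (P : PrimeSpectrum (X.ring x)) (Q : PrimeSpectrum (X.ring y))
    (hPQ : PrimeSpectrum.comap (X.res hx) P = PrimeSpectrum.comap (X.res hy) Q) :
    X.PairRel ⟨x, P⟩ ⟨y, Q⟩ := by
  classical
  letI := (X.res hx).toAlgebra
  letI := (X.res hy).toAlgebra
  obtain ⟨e, he, he'⟩ := exists_tensor_sections hX hx hy rfl rfl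
  obtain ⟨T, hTP, hTQ⟩ : ∃ T : PrimeSpectrum (X.ring x ⊗[X.ring s] X.ring y),
      PrimeSpectrum.comap (Algebra.TensorProduct.includeLeftRingHom) T = P ∧
      PrimeSpectrum.comap (Algebra.TensorProduct.includeRight (R := X.ring s) (A := X.ring x)).toRingHom T = Q :=
    exists_prime_tensor P Q hPQ
  let r := T.comap (RingEquiv.ofBijective e he).symm.toRingHom
  have hne : (X.up x ∩ X.up y).Nonempty := by
    by_contra hempty
    rw [Set.not_nonempty_iff_eq_empty] at hempty
    haveI : IsEmpty ↥(X.up x ∩ X.up y) := Set.isEmpty_coe_sort.mpr hempty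
    haveI : Subsingleton (X.sectRing (X.up x ∩ X.up y)) := ⟨fun a b => Subtype.ext (funext fun q => isEmptyElim q)⟩
    exact r.isPrime.ne_top (Subsingleton.elim _ _)
  haveI := hff s x y hx hy hne
  obtain ⟨r', hr'⟩ := PrimeSpectrum.comap_surjective_of_faithfullyFlat
    (A := X.sectRing (X.up x ∩ X.up y)) (B := (q : ↥(X.up x ∩ X.up y)) → X.ring q.1) r
  obtain ⟨q, t, rfl⟩ := PrimeSpectrum.exists_comap_evalRingHom_eq r'
  refine ⟨q.1, q.2.1, q.2.2, t, ?_, ?_⟩
  · rw [← hTP]
    ext a
    have := congrArg (fun p : PrimeSpectrum _ => e (a ⊗ₜ[X.ring s] (1 : X.ring y)) ∈ p.asIdeal) hr'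
    simp only [r, PrimeSpectrum.comap_asIdeal, Ideal.mem_comap] at this ⊢
    refine (Iff.of_eq ?_).trans ((Iff.of_eq this).trans (Iff.of_eq ?_))
    · show _ = ((e (a ⊗ₜ 1)).1 q ∈ t.asIdeal)
      rw [he', map_one, mul_one]
    · show ((RingEquiv.ofBijective e he).symm ((RingEquiv.ofBijective e he) (a ⊗ₜ 1)) ∈ T.asIdeal) = _
      rw [RingEquiv.symm_apply_apply]
      rfl
  · rw [← hTQ]
    ext b
    have := congrArg (fun p : PrimeSpectrum _ => e ((1 : X.ring x) ⊗ₜ[X.ring s] b) ∈ p.asIdeal) hr'
    simp only [r, PrimeSpectrum.comap_asIdeal, Ideal.mem_comap] at this ⊢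
    refine (Iff.of_eq ?_).trans ((Iff.of_eq this).trans (Iff.of_eq ?_))
    · show _ = ((e (1 ⊗ₜ b)).1 q ∈ t.asIdeal)
      rw [he', map_one, one_mul]
    · show ((RingEquiv.ofBijective e he).symm ((RingEquiv.ofBijective e he) (1 ⊗ₜ b)) ∈ T.asIdeal) = _
      rw [RingEquiv.symm_apply_apply]
      rfl

end Groth.Agent.SchFinLib
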