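import Groth.Prelude.Def_SchFin2
import Mathlib

/-!
# Finite ringed posets: base change along restrictions and degree zero cohomology as sections
-/

set_option autoImplicit false
set_option linter.unusedSectionVars false

universe u

open SchFin TensorProduct

namespace Groth.Agent.SchFinLib

/-- `IsBCAlong` for given algebra and module structures. -/
theorem isBCAlong_iff {R S M N : Type u} [CommRing R] [CommRing S] [iA : Algebra R S] [AddCommGroup M]
    [AddCommGroup N] [Module R M] [Module S N] [iM : Module R N] [iT : IsScalarTower R S N] {g : R →+* S}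
    (hg : algebraMap R S = g) (f : M →ₛₗ[g] N) (f' : M →ₗ[R] N) (hf : ∀ m, f' m = f m) :
    IsBCAlong g f ↔ IsBaseChange S f' := by
  have h2 : iM = Module.compHom N g := Module.ext' _ _ fun r n => by
    refine (algebraMap_smul S r n).symm.trans ?_
    rw [hg]
    rfl
  have h1 : iA = g.toAlgebra := Algebra.algebra_ext _ _ fun r => RingHom.congr_fun hg r
  subst h1 h2
  letI := g.toAlgebra
  letI := Module.compHom N g
  have : f' = { toFun := f, map_add' := f.map_add, map_smul' := f.map_smulₛₗ } := LinearMap.ext hf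
  subst this
  rfl

variable {X : RSpace.{u}} {U : Set X.pt} {R : Type u} [CommRing R] (φ : Coef X U R) (M : OMod X)

/-- The one-point chain. -/
noncomputable def pchain (q : U) : Chain U 0 :=
  OrderEmbedding.ofStrictMono (fun _ => q) fun i j h => absurd h (by omega)

lemma pchain_apply (q : U) (i : Fin 1) : pchain q i = q := rfl

lemma eq_pchain (σ : Chain U 0) : σ = pchain (σ (Fin.last 0)) :=
  RelEmbedding.ext fun i => by rw [pchain_apply, (Fin.ext (by omega) : i = Fin.last 0)]

lemma mem_cocycles_zero (c : Cochain φ M 0) :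
    c ∈ cocycles φ M 0 ↔ ∀ (p q : U) (h : p.1 ≤ q.1), M.res h (c (pchain p)) = c (pchain q) := by
  have key : ∀ σ : Chain U 1, diff φ M 0 c σ =
      M.res (le_refl (σ (Fin.last 1)).1) (c (pchain (σ (Fin.last 1)))) -
        M.res (σ.monotone (Fin.le_last 0) : (σ 0).1 ≤ (σ (Fin.last 1)).1) (c (pchain (σ 0))) := by
    intro σ
    show ∑ j : Fin 2, ((-1 : ℤ) ^ (j : ℕ)) • c.faceVal σ j = _
    rw [Fin.sum_univ_two]
    simp only [Fin.val_zero, Fin.val_one, pow_zero, pow_one, one_smul, neg_smul, ← sub_eq_add_neg]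
    have e0 : σ.face 0 = pchain (σ (Fin.last 1)) := RelEmbedding.ext fun i => by
      rw [pchain_apply, Chain.face_apply, (Fin.ext (by omega) : i = 0)]; rfl
    have e1 : σ.face 1 = pchain (σ 0) := RelEmbedding.ext fun i => by
      rw [pchain_apply, Chain.face_apply, (Fin.ext (by omega) : i = 0)]; rfl
    have aux : ∀ (τ τ' : Chain U 0) (hτ : τ = τ') (z : X.pt) (h : (τ (Fin.last 0)).1 ≤ z)
        (h' : (τ' (Fin.last 0)).1 ≤ z), M.res h (c τ) = M.res h' (c τ') := by
      rintro τ _ rfl z h h'; rfl
    unfold Cochain.faceVal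
    exact congrArg₂ (· - ·) (aux _ _ e0 _ _ _) (aux _ _ e1 _ _ _)
  constructor
  · intro hc p q h
    rcases h.lt_or_eq with hlt | heq
    · let σ : Chain U 1 := OrderEmbedding.ofStrictMono ![p, q] (by
        rw [Fin.strictMono_iff_lt_succ]
        intro i
        fin_cases i
        exact hlt)
      have h0 : diff φ M 0 c = 0 := LinearMap.mem_ker.mp hc
      have : diff φ M 0 c σ = 0 := congrFun h0 σ
      rw [key, sub_eq_zero] at this
      exact this.symm.trans (M.res_self _ _)
    · obtain rfl : p = q := Subtype.ext heq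
      exact M.res_self _ _
  · intro h
    refine LinearMap.mem_ker.mpr ?_
    funext σ
    rw [key, h (σ 0) (σ (Fin.last 1)) (σ.monotone (Fin.le_last 0)), M.res_self]
    exact sub_self _

/-- Degree zero cohomology gives sections. -/
noncomputable def toSect : H φ M 0 →+ M.sect U :=
  (show (cocycles φ M 0) ⧸ (cobdry φ M 0).comap (cocycles φ M 0).subtype →+ M.sect U from
    QuotientAddGroup.lift _
      { toFun := fun c => ⟨fun q => c.1 (pchain q), fun q q' h => (mem_cocycles_zero φ M c.1).mp c.2 q q' h⟩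
        map_zero' := rfl
        map_add' := fun _ _ => rfl }
      fun c hc => by
        have hc' : c.1 = 0 := (Submodule.mem_bot R).mp hc
        refine AddMonoidHom.mem_ker.mpr (Subtype.ext (funext fun q => ?_))
        exact congrFun hc' _)

lemma toSect_mk (c : cocycles φ M 0) (q : U) : (toSect φ M (H.mk φ M 0 c)).1 q = c.1 (pchain q) := rfl

lemma toSect_smul (a : R) (h : H φ M 0) (q : U) :
    (toSect φ M (a • h)).1 q = φ.map q a • (toSect φ M h).1 q := by
  obtain ⟨c, rfl⟩ := Submodule.Quotient.mk_surjective _ h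
  rfl

lemma toSect_bijective : Function.Bijective (toSect φ M) := by
  constructor
  · intro h h' e
    obtain ⟨c, rfl⟩ := Submodule.Quotient.mk_surjective _ h
    obtain ⟨c', rfl⟩ := Submodule.Quotient.mk_surjective _ h'
    refine congrArg Submodule.Quotient.mk (Subtype.ext (funext fun σ => ?_))
    rw [eq_pchain σ]
    exact congrFun (congrArg Subtype.val e) (σ (Fin.last 0))
  · intro s
    let c : Cochain φ M 0 := fun σ => s.1 (σ (Fin.last 0))
    exact ⟨H.mk φ M 0 ⟨c, (mem_cocycles_zero φ M c).mpr fun p q h => s.2 p q h⟩, Subtype.ext (funext fun q => rfl)⟩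

variable {φ} {U' : Set X.pt} {R' : Type u} [CommRing R'] {φ' : Coef X U' R'}

lemma toSect_resH (s : Coef.Sub φ φ') (h : H φ M 0) (q : U') :
    (toSect φ' M (resH M s 0 h)).1 q = (toSect φ M h).1 ⟨q.1, s.le q.2⟩ := by
  obtain ⟨c, rfl⟩ := Submodule.Quotient.mk_surjective _ h
  show c.1 ((pchain q).incl s.le) = c.1 (pchain _)
  congr 1

/-- Base change in degree zero: simple tensors. -/
theorem bc_tensor [Algebra R R'] (s : Coef.Sub φ φ') (hs : algebraMap R R' = s.hom)
    (hbc : IsBCAlong s.hom (resH M s 0)) :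
    ∃ e : R' ⊗[R] H φ M 0 →+ M.sect U', Function.Bijective e ∧ ∀ (a : R') (h : H φ M 0) (q : U'),
      (e (a ⊗ₜ h)).1 q = φ'.map q a • (toSect φ M h).1 ⟨q.1, s.le q.2⟩ := by
  letI : Module R (H φ' M 0) := Module.compHom _ (algebraMap R R')
  haveI : IsScalarTower R R' (H φ' M 0) := IsScalarTower.of_algebraMap_smul fun _ _ => rfl
  let f' : H φ M 0 →ₗ[R] H φ' M 0 :=
    { toFun := resH M s 0, map_add' := map_add _, map_smul' := fun a h => by
        rw [LinearMap.map_smulₛₗ]
        exact congrArg (· • _) (RingHom.congr_fun hs a).symm }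
  have hb : IsBaseChange R' f' := (isBCAlong_iff hs (resH M s 0) f' fun _ => rfl).mp hbc
  refine ⟨(toSect φ' M).comp hb.equiv.toLinearMap.toAddMonoidHom,
    (toSect_bijective φ' M).comp hb.equiv.bijective, fun a h q => ?_⟩
  show (toSect φ' M (hb.equiv (a ⊗ₜ h))).1 q = _
  rw [hb.equiv_tmul, toSect_smul]
  exact congrArg _ (toSect_resH M s h q)

end Groth.Agent.SchFinLib
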