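import Mathlib
import Groth.Agent.SchFinLib.PiDescent

/-!
# Fixed subalgebras of finite families of endomorphisms
-/

set_option autoImplicit false
set_option linter.unusedSectionVars false

universe u

open TensorProduct

namespace Groth.Agent.SchFinLib

/-- The subalgebra fixed by a family of endomorphisms. -/
def fixSub {R A : Type u} [CommRing R] [CommRing A] [Algebra R A] {G : Type u} (σ : G → A →ₐ[R] A) :
    Subalgebra R A where
  carrier := {a | ∀ g, σ g a = a}
  mul_mem' {a b} ha hb g := by rw [map_mul, ha g, hb g]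
  add_mem' {a b} ha hb g := by rw [map_add, ha g, hb g]
  algebraMap_mem' r g := (σ g).commutes r

section
variable {R A : Type u} [CommRing R] [CommRing A] [Algebra R A] {G : Type u} [Finite G] (σ : G → A →ₐ[R] A)
  (T : Type u) [CommRing T] [Algebra R T] [Module.Flat R T]

/-- Base change of fixed subalgebras, as a map. -/
noncomputable def fixBC :
    T ⊗[R] fixSub σ →ₐ[T] fixSub (fun g => Algebra.TensorProduct.map (AlgHom.id T T) (σ g)) :=
  (Algebra.TensorProduct.map (AlgHom.id T T) (fixSub σ).val).codRestrict _ fun z g => by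
    induction z using TensorProduct.induction_on with
    | zero => simp only [map_zero]
    | add a b ha hb => simp only [map_add, ha, hb]
    | tmul t a => simp [Algebra.TensorProduct.map_tmul, a.2 g]

lemma fixBC_val (z : T ⊗[R] fixSub σ) :
    ((fixBC σ T z : fixSub (fun g => Algebra.TensorProduct.map (AlgHom.id T T) (σ g))) : T ⊗[R] A) =
      (fixSub σ).val.toLinearMap.lTensor T z := by
  induction z using TensorProduct.induction_on with
  | zero => simp
  | add a b ha hb => simp only [map_add, Subalgebra.coe_add, ha, hb]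
  | tmul t a => rfl

theorem fixBC_bijective : Function.Bijective (fixBC σ T) := by
  classical
  haveI := Fintype.ofFinite G
  have hinc : Function.Injective ((fixSub σ).val.toLinearMap.lTensor T) :=
    Module.Flat.lTensor_preserves_injective_linearMap _ Subtype.val_injective
  refine ⟨fun x y h => hinc (by rw [← fixBC_val, ← fixBC_val, h]), fun ⟨z, hz⟩ => ?_⟩
  let d : A →ₗ[R] (G → A) := LinearMap.pi fun g => (σ g).toLinearMap - LinearMap.id
  have hex : Function.Exact (fixSub σ).val.toLinearMap d := fun a => by
    constructor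
    · intro ha
      exact ⟨⟨a, fun g => sub_eq_zero.mp (congrFun ha g)⟩, rfl⟩
    · rintro ⟨b, rfl⟩
      exact funext fun g => sub_eq_zero.mpr (b.2 g)
  have hd : d.lTensor T z = 0 := by
    refine (TensorProduct.piRight R R T (fun _ : G => A)).injective (funext fun g => ?_)
    have key : ∀ w, (TensorProduct.piRight R R T (fun _ : G => A)) (d.lTensor T w) g =
        Algebra.TensorProduct.map (AlgHom.id T T) (σ g) w - w := fun w => by
      induction w using TensorProduct.induction_on with
      | zero => simp
      | add a b ha hb => simp only [map_add, Pi.add_apply, ha, hb]; abel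
      | tmul t a => simp [d, tmul_sub]
    rw [key, hz g, sub_self, map_zero]
    rfl
  obtain ⟨w, hw⟩ := (Module.Flat.lTensor_exact T hex z).mp hd
  exact ⟨w, Subtype.ext ((fixBC_val σ T w).trans hw)⟩

/-- Fixed subalgebras are invariant under conjugation. -/
noncomputable def fixConj {A' : Type u} [CommRing A'] [Algebra R A'] (e : A ≃ₐ[R] A') :
    fixSub σ ≃ₐ[R] fixSub (fun g => (e.toAlgHom.comp ((σ g).comp e.symm.toAlgHom))) :=
  AlgEquiv.ofBijective
    ((e.toAlgHom.comp (fixSub σ).val).codRestrict _ fun a g => by
      show e (σ g (e.symm (e a.1))) = e a.1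
      rw [AlgEquiv.symm_apply_apply, a.2 g])
    ⟨fun a b h => Subtype.ext (e.injective (congrArg Subtype.val h)), fun b => by
      refine ⟨⟨e.symm b.1, fun g => e.injective ?_⟩, Subtype.ext (e.apply_symm_apply b.1)⟩
      rw [e.apply_symm_apply]
      exact b.2 g⟩

end

/-- Fixed functions of endomorphisms given by maps of the index set. -/
theorem etale_fix_of_maps {T : Type u} [CommRing T] {n : ℕ} {G : Type u}
    (σ : G → (Fin n → T) →ₐ[T] (Fin n → T)) (φ : G → Fin n → Fin n) (hφ : ∀ g f i, σ g f i = f (φ g i)) :
    Algebra.Etale T (fixSub σ) := by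
  let r : Fin n → Fin n → Prop := fun i j => ∃ g, φ g i = j
  haveI : Finite (Quot r) := Finite.of_surjective (Quot.mk r) Quot.mk_surjective
  let Φ : (Quot r → T) →ₐ[T] fixSub σ :=
    (AlgHom.ofLinearMap (LinearMap.funLeft T T (Quot.mk r)) rfl (fun _ _ => rfl) :
      (Quot r → T) →ₐ[T] (Fin n → T)).codRestrict _ fun h g => funext fun i => by
        rw [hφ]
        exact congrArg h (Quot.sound ⟨g, rfl⟩ : Quot.mk r i = Quot.mk r (φ g i)).symm
  have hΦ : Function.Bijective Φ := by
    refine ⟨fun a b h => funext fun q => ?_, fun f => ?_⟩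
    · obtain ⟨i, rfl⟩ := Quot.mk_surjective q
      exact congrFun (congrArg Subtype.val h) i
    · refine ⟨Quot.lift f.1 fun i j ⟨g, hg⟩ => ?_, Subtype.ext rfl⟩
      rw [← hg]
      exact (congrFun (f.2 g) i).symm.trans (hφ g f.1 i)
  exact Algebra.Etale.of_equiv (AlgEquiv.ofBijective Φ hΦ)

/-- Fixed functions of any finite family of endomorphisms of a split algebra are étale. -/
theorem etale_fix_split {R : Type u} [CommRing R] {n : ℕ} {G : Type u} [Finite G]
    (σ : G → (Fin n → R) →ₐ[R] (Fin n → R)) : Algebra.Etale R (fixSub σ) := by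
  classical
  haveI := Fintype.ofFinite G
  let K := G × Fin n × Fin n
  let c : K → R := fun k => σ k.1 (Pi.single k.2.2 1) k.2.1
  have hc : ∀ k, IsIdempotentElem (c k) := fun k => by
    show σ k.1 _ _ * σ k.1 _ _ = _
    rw [← Pi.mul_apply, ← map_mul, ← Pi.single_mul, one_mul]
  let s : (K → Bool) → R := fun ε => ∏ k, if ε k then c k else 1 - c k
  let ι : Type u := ULift.{u} (K → Bool)
  let T : ι → Type u := fun ε => Localization.Away (s ε.down)
  haveI : ∀ ε, Module.Flat R (T ε) := fun ε => IsLocalization.flat (T ε) (Submonoid.powers (s ε.down))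
  haveI : Fintype ι := Fintype.ofFinite ι
  haveI : Module.Flat R (∀ ε, T ε) :=
    Module.Flat.of_linearEquiv (DFinsupp.linearEquivFunOnFintype (R := R) (M := T)).symm
  haveI : Module.FaithfullyFlat R (∀ ε, T ε) := by
    refine Module.FaithfullyFlat.of_comap_surjective fun P => ?_
    let ε : ι := ⟨fun k => decide (c k ∉ P.asIdeal)⟩
    have hs : s ε.down ∉ P.asIdeal := by
      intro hmem
      obtain ⟨k, -, hk⟩ := (Ideal.IsPrime.prod_mem_iff (hp := P.isPrime)).mp hmem
      by_cases hck : c k ∈ P.asIdeal
      · simp [ε, hck] at hk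
        exact P.isPrime.ne_top ((Ideal.eq_top_iff_one _).mpr (by simpa using P.asIdeal.add_mem hk hck))
      · simp [ε, hck] at hk
    obtain ⟨Q, hQ⟩ : P ∈ Set.range (PrimeSpectrum.comap (algebraMap R (T ε))) := by
      rw [PrimeSpectrum.localization_away_comap_range (T ε) (s ε.down)]
      exact hs
    exact ⟨PrimeSpectrum.comap (Pi.evalRingHom T ε) Q, hQ⟩
  refine etale_descent T (fun ε => T ε ⊗[R] fixSub σ) (fun ε => Algebra.TensorProduct.includeRight)
    (fun ε => ?_) fun ε => ?_
  · have : ((Algebra.TensorProduct.includeRight : fixSub σ →ₐ[R] T ε ⊗[R] fixSub σ).toLinearMap.liftBaseChange (T ε) :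
        T ε ⊗[R] fixSub σ → T ε ⊗[R] fixSub σ) = id := by
      funext z
      induction z using TensorProduct.induction_on with
      | zero => simp
      | add a b ha hb => rw [map_add, ha, hb]; rfl
      | tmul t a => simp [TensorProduct.smul_tmul']
    rw [this]
    exact Function.bijective_id
  · let e := Algebra.TensorProduct.piScalarRight R (T ε) (T ε) (Fin n)
    let τ : G → (Fin n → T ε) →ₐ[T ε] (Fin n → T ε) := fun g =>
      e.toAlgHom.comp ((Algebra.TensorProduct.map (AlgHom.id (T ε) (T ε)) (σ g)).comp e.symm.toAlgHom)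
    have hone : ∀ k, algebraMap R (T ε) (c k) = 0 ∨ algebraMap R (T ε) (c k) = 1 := fun k => by
      have hu : IsUnit (algebraMap R (T ε) (s ε.down)) := IsLocalization.Away.algebraMap_isUnit _
      have hdvd : (if ε.down k then c k else 1 - c k) ∣ s ε.down := Finset.dvd_prod_of_mem _ (Finset.mem_univ k)
      have hu' := isUnit_of_dvd_unit (map_dvd (algebraMap R (T ε)) hdvd) hu
      cases hε : ε.down k with
      | true =>
        simp only [hε, if_true] at hu'
        refine Or.inr ((IsIdempotentElem.iff_eq_one_of_isUnit hu').mp ?_)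
        exact (hc k : IsIdempotentElem (c k)).map (algebraMap R (T ε))
      | false =>
        simp only [hε, Bool.false_eq_true, if_false] at hu'
        have hi : IsIdempotentElem (algebraMap R (T ε) (1 - c k)) :=
          ((hc k : IsIdempotentElem (c k)).one_sub).map (algebraMap R (T ε))
        have := (IsIdempotentElem.iff_eq_one_of_isUnit hu').mp hi
        rw [map_sub, map_one, sub_eq_self] at this
        exact Or.inl this
    have hτ : ∀ g j i, τ g (Pi.single j 1) i = algebraMap R (T ε) (c (g, i, j)) := fun g j i => by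
      have hs' : e.symm (Pi.single j 1) = (1 : T ε) ⊗ₜ[R] (Pi.single j 1 : Fin n → R) := by
        refine e.injective ?_
        rw [AlgEquiv.apply_symm_apply]
        funext l
        simp [e, Pi.single_apply]
      show e (Algebra.TensorProduct.map (AlgHom.id (T ε) (T ε)) (σ g) (e.symm (Pi.single j 1))) i = _
      rw [hs', Algebra.TensorProduct.map_tmul]
      simp [e, c, Algebra.smul_def]
    have hex : ∀ g i, ∃ j, ∀ f, τ g f i = f j := fun g i => by
      obtain ⟨j, hj⟩ : ∃ j, τ g (Pi.single j 1) i = 1 := by
        by_contra hne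
        push Not at hne
        have h0 : ∀ j, τ g (Pi.single j 1) i = 0 := fun j => by
          rcases hone (g, i, j) with h | h
          · rw [hτ]; exact h
          · exact absurd ((hτ g j i).trans h) (hne j)
        have h1 : (1 : T ε) = 0 := by
          have h2 := congrFun (congrArg (τ g) (Finset.univ_sum_single (1 : Fin n → T ε))) i
          simp only [map_sum, Finset.sum_apply, map_one, Pi.one_apply] at h2
          rw [← h2]
          exact Finset.sum_eq_zero fun j _ => h0 j
        exact hne i ((h0 i).trans h1.symm)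
      refine ⟨j, fun f => ?_⟩
      calc τ g f i = τ g f i * τ g (Pi.single j 1) i := by rw [hj, mul_one]
        _ = τ g (f j • Pi.single j 1) i := by
          rw [← Pi.mul_apply, ← map_mul, show f * Pi.single j 1 = f j • Pi.single j (1 : T ε) from funext fun l => by
            rcases eq_or_ne l j with rfl | hl
            · simp
            · simp [hl]]
        _ = f j := by rw [map_smul, Pi.smul_apply, hj, smul_eq_mul, mul_one]
    choose φ hφ using hex
    haveI := etale_fix_of_maps τ φ fun g f i => hφ g i f
    exact Algebra.Etale.of_equiv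
      ((AlgEquiv.ofBijective _ (fixBC_bijective σ (T ε))).trans
        (fixConj (fun g => Algebra.TensorProduct.map (AlgHom.id (T ε) (T ε)) (σ g)) e)).symm

/-- Fixed subalgebras of algebras which split after a faithfully flat extension are étale. -/
theorem etale_fix {R A : Type u} [CommRing R] [CommRing A] [Algebra R A] {G : Type u} [Finite G]
    (σ : G → A →ₐ[R] A) (B : Type u) [CommRing B] [Algebra R B] [Module.FaithfullyFlat R B] {n : ℕ}
    (e : B ⊗[R] A ≃ₐ[B] (Fin n → B)) : Algebra.Etale R (fixSub σ) := by
  haveI := etale_fix_split fun g => e.toAlgHom.comp ((Algebra.TensorProduct.map (AlgHom.id B B) (σ g)).comp e.symm.toAlgHom)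
  haveI : Algebra.Etale B (B ⊗[R] fixSub σ) := Algebra.Etale.of_equiv
    ((AlgEquiv.ofBijective _ (fixBC_bijective σ B)).trans
      (fixConj (fun g => Algebra.TensorProduct.map (AlgHom.id B B) (σ g)) e)).symm
  exact Algebra.Etale.of_etale_tensorProduct_of_faithfullyFlat B

/-- Points agreeing on the invariants differ by an element of the group. -/
theorem exists_conj {R A Ω : Type u} [CommRing R] [CommRing A] [Field Ω] [Algebra R A] [Algebra R Ω]
    [Module.Finite R A] {G : Type u} [Finite G] (σ : G → A →ₐ[R] A) (hid : ∃ g, σ g = AlgHom.id R A)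
    (hperm : ∀ h, ∃ e : G ≃ G, ∀ g, (σ h).comp (σ g) = σ (e g)) (φ ψ : A →ₐ[R] Ω)
    (h : ∀ a ∈ fixSub σ, φ a = ψ a) : ∃ g, φ.comp (σ g) = ψ := by
  classical
  haveI := Fintype.ofFinite G
  obtain ⟨k, a, ha⟩ := Module.Finite.exists_fin (R := R) (M := A)
  let L : (A →+* A) → MvPolynomial (Fin k) A →+* MvPolynomial (Fin k) A := fun f => MvPolynomial.map f
  let x : MvPolynomial (Fin k) A := ∑ i, MvPolynomial.C (a i) * MvPolynomial.X i
  let Q : Polynomial (MvPolynomial (Fin k) A) := ∏ g, (Polynomial.X - Polynomial.C (L (σ g).toRingHom x))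
  have hQ : ∀ h', Q.map (L (σ h').toRingHom) = Q := fun h' => by
    obtain ⟨e, he⟩ := hperm h'
    simp only [Q, Polynomial.map_prod, Polynomial.map_sub, Polynomial.map_X, Polynomial.map_C]
    refine Fintype.prod_equiv e _ _ fun g => ?_
    simp only [L, MvPolynomial.map_map]
    rw [← he]
    rfl
  have hfix : ∀ m d, (Q.coeff m).coeff d ∈ fixSub σ := fun m d h' => by
    conv_rhs => rw [← hQ h', Polynomial.coeff_map, MvPolynomial.coeff_map]
    rfl
  let Φ := MvPolynomial.map (σ := Fin k) φ.toRingHom
  let Ψ := MvPolynomial.map (σ := Fin k) ψ.toRingHom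
  have heq : Q.map Φ = Q.map Ψ := Polynomial.ext fun m => MvPolynomial.ext _ _ fun d => by
    simp only [Φ, Ψ, Polynomial.coeff_map, MvPolynomial.coeff_map]
    exact h _ (hfix m d)
  have hroot : (Q.map Φ).eval (Ψ x) = 0 := by
    rw [heq, Polynomial.eval_map, Polynomial.eval₂_hom]
    have : Q.eval x = 0 := by
      obtain ⟨g₀, hg₀⟩ := hid
      rw [Polynomial.eval_prod]
      refine Finset.prod_eq_zero (Finset.mem_univ g₀) ?_
      simp [L, hg₀, MvPolynomial.map_id]
    rw [this, map_zero]
  simp only [Q, Polynomial.map_prod, Polynomial.map_sub, Polynomial.map_X, Polynomial.map_C, Polynomial.eval_prod,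
    Finset.prod_eq_zero_iff, Polynomial.eval_sub, Polynomial.eval_X, Polynomial.eval_C, sub_eq_zero] at hroot
  obtain ⟨g, -, hg⟩ := hroot
  refine ⟨g, ?_⟩
  have hgen : ∀ i, φ (σ g (a i)) = ψ (a i) := fun i => by
    have := congrArg (MvPolynomial.coeff (Finsupp.single i 1)) hg
    simp [Φ, Ψ, L, x, MvPolynomial.coeff_sum, MvPolynomial.coeff_C_mul, MvPolynomial.coeff_X, Finsupp.single_eq_single_iff,
      map_sum] at this
    exact this.symm
  apply AlgHom.toLinearMap_injective
  refine LinearMap.ext_on ha ?_
  rintro _ ⟨i, rfl⟩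
  exact hgen i

end Groth.Agent.SchFinLib
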