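import Mathlib

/-!
# Points of finite algebras in an algebraically closed field
-/

set_option autoImplicit false
set_option linter.unusedSectionVars false

universe u

open TensorProduct

namespace Groth.Agent.SchFinLib

variable {R A Ω : Type u} [CommRing R] [CommRing A] [Field Ω] [Algebra R A] [Algebra R Ω]

/-- The prime of the base change to a field defined by a point. -/
noncomputable def ptPrime (φ : A →ₐ[R] Ω) : PrimeSpectrum (Ω ⊗[R] A) :=
  ⟨RingHom.ker (Algebra.TensorProduct.productMap (AlgHom.id R Ω) φ).toRingHom, RingHom.ker_isPrime _⟩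

lemma mem_ptPrime (φ : A →ₐ[R] Ω) (z : Ω ⊗[R] A) :
    z ∈ (ptPrime φ).asIdeal ↔ Algebra.TensorProduct.productMap (AlgHom.id R Ω) φ z = 0 := Iff.rfl

lemma ptPrime_injective : Function.Injective (ptPrime (R := R) (A := A) (Ω := Ω)) := fun φ ψ h => by
  ext a
  have : (φ a) ⊗ₜ[R] (1 : A) - (1 : Ω) ⊗ₜ[R] a ∈ (ptPrime ψ).asIdeal := by
    rw [← h, mem_ptPrime, map_sub, Algebra.TensorProduct.productMap_apply_tmul,
      Algebra.TensorProduct.productMap_apply_tmul]
    simp
  rw [mem_ptPrime, map_sub, Algebra.TensorProduct.productMap_apply_tmul,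
    Algebra.TensorProduct.productMap_apply_tmul, sub_eq_zero] at this
  simpa using this

lemma ptPrime_surjective [IsAlgClosed Ω] [Module.Finite R A] :
    Function.Surjective (ptPrime (R := R) (A := A) (Ω := Ω)) := fun x => by
  let K := (Ω ⊗[R] A) ⧸ x.asIdeal
  haveI : Module.Finite Ω K := Module.Finite.trans (Ω ⊗[R] A) K
  haveI : IsDomain K := Ideal.Quotient.isDomain _
  have hbij : Function.Bijective (algebraMap Ω K) :=
    IsAlgClosed.algebraMap_bijective_of_isIntegral (k := Ω) (K := K)
  let e : Ω ≃ₐ[Ω] K := AlgEquiv.ofBijective (Algebra.ofId Ω K) hbij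
  let π : Ω ⊗[R] A →ₐ[Ω] Ω := e.symm.toAlgHom.comp (Ideal.Quotient.mkₐ Ω x.asIdeal)
  let φ : A →ₐ[R] Ω := (π.restrictScalars R).comp Algebra.TensorProduct.includeRight
  have hπ : Algebra.TensorProduct.productMap (AlgHom.id R Ω) φ = π.restrictScalars R := by
    apply Algebra.TensorProduct.ext
    · ext w
      simp only [AlgHom.comp_apply, Algebra.TensorProduct.includeLeft_apply,
        Algebra.TensorProduct.productMap_apply_tmul, map_one, mul_one, AlgHom.id_apply]
      exact (π.commutes w).symm
    · ext a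
      simp [φ]
  refine ⟨φ, PrimeSpectrum.ext (Ideal.ext fun z => ?_)⟩
  rw [mem_ptPrime, hπ]
  show e.symm (Ideal.Quotient.mk x.asIdeal z) = 0 ↔ _
  rw [EmbeddingLike.map_eq_zero_iff, Ideal.Quotient.eq_zero_iff_mem]

lemma ptPrime_bijective [IsAlgClosed Ω] [Module.Finite R A] :
    Function.Bijective (ptPrime (R := R) (A := A) (Ω := Ω)) := ⟨ptPrime_injective, ptPrime_surjective⟩

lemma comap_ptPrime {B : Type u} [CommRing B] [Algebra R B] (u : A →ₐ[R] B) (φ : B →ₐ[R] Ω) :
    PrimeSpectrum.comap (Algebra.TensorProduct.map (AlgHom.id Ω Ω) u).toRingHom (ptPrime φ) =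
      ptPrime (φ.comp u) := by
  refine PrimeSpectrum.ext (Ideal.ext fun z => ?_)
  rw [mem_ptPrime, PrimeSpectrum.comap_asIdeal, Ideal.mem_comap, mem_ptPrime]
  refine Eq.congr ?_ rfl
  induction z using TensorProduct.induction_on with
  | zero => simp
  | add a b ha hb => simp only [map_add, ha, hb]
  | tmul w a => simp

/-- A point of a finite algebra over a domain lifts along an injective finite étale map. -/
theorem exists_extension [IsAlgClosed Ω] {B : Type u} [CommRing B] [Algebra R B] [Algebra A B]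
    [IsScalarTower R A B] [Module.Finite A B] [Module.FaithfullyFlat A B] (φ : A →ₐ[R] Ω) :
    ∃ ψ : B →ₐ[R] Ω, ψ.comp (IsScalarTower.toAlgHom R A B) = φ := by
  letI : Algebra A Ω := φ.toRingHom.toAlgebra
  haveI : IsScalarTower R A Ω := IsScalarTower.of_algebraMap_eq fun r => (φ.commutes r).symm
  haveI : Nontrivial (Ω ⊗[A] B) := by
    have : Function.Injective (TensorProduct.mk A B Ω 1) := Module.FaithfullyFlat.tensorProduct_mk_injective Ω
    exact ((TensorProduct.comm A B Ω).injective.comp this).nontrivial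
  obtain ⟨x⟩ := (inferInstance : Nonempty (PrimeSpectrum (Ω ⊗[A] B)))
  obtain ⟨ψ, -⟩ := ptPrime_surjective (R := A) (A := B) (Ω := Ω) x
  exact ⟨ψ.restrictScalars R, AlgHom.ext fun a => ψ.commutes a⟩

/-- A point of a finite product factors through a unique factor. -/
theorem point_pi {ι : Type} [Finite ι] (M : ι → Type u) [∀ i, CommRing (M i)] [∀ i, Algebra R (M i)] :
    Function.Bijective (fun x : Σ i, (M i →ₐ[R] Ω) => x.2.comp (Pi.evalAlgHom R M x.1)) := by
  classical
  haveI := Fintype.ofFinite ι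
  constructor
  · rintro ⟨i, φ⟩ ⟨j, ψ⟩ h
    obtain rfl : i = j := by
      by_contra hij
      have := AlgHom.congr_fun h (Pi.single i 1)
      simp [Ne.symm hij] at this
    exact congrArg _ (AlgHom.ext fun m => by simpa using AlgHom.congr_fun h (Pi.single i m))
  · intro Φ
    have hsum : ∑ i, Φ (Pi.single i 1) = 1 := by
      rw [← map_sum, Finset.univ_sum_single (fun i => (1 : M i)), ← Pi.one_def, map_one]
    obtain ⟨i, -, hi⟩ := Finset.exists_ne_zero_of_sum_ne_zero (hsum.trans_ne one_ne_zero)
    have hid : IsIdempotentElem (Φ (Pi.single i (1 : M i))) := by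
      rw [IsIdempotentElem, ← map_mul, ← Pi.single_mul, one_mul]
    have h1 : Φ (Pi.single i (1 : M i)) = 1 := (IsIdempotentElem.iff_eq_zero_or_one.mp hid).resolve_left hi
    let ψ : M i →ₐ[R] Ω := AlgHom.ofLinearMap (Φ.toLinearMap.comp (LinearMap.single R M i))
      h1 (fun a b => by simp [Pi.single_mul])
    refine ⟨⟨i, ψ⟩, AlgHom.ext fun m => ?_⟩
    show Φ (Pi.single i (m i)) = Φ m
    calc Φ (Pi.single i (m i)) = Φ (m * Pi.single i 1) := by
          congr 1
          funext j
          rcases eq_or_ne j i with rfl | hj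
          · simp
          · simp [hj]
      _ = Φ m := by rw [map_mul, h1, mul_one]

end Groth.Agent.SchFinLib
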