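import Groth.Agent.SchFinLib.Base

/-!
# Quasi-coherent algebras: base change maps, isomorphisms, retracts
-/

set_option autoImplicit false
set_option linter.unusedSectionVars false

universe u

open SchFin TensorProduct CategoryTheory

namespace Groth.Agent.SchFinLib

variable {X : RSpace.{u}} (A : Alg X)

section
variable {p q : X.pt} (h : p ≤ q) [Algebra (X.ring p) (X.ring q)]
  [Algebra (X.ring p) (A.carrier q)] [IsScalarTower (X.ring p) (X.ring q) (A.carrier q)]
  (ha : algebraMap (X.ring p) (X.ring q) = X.res h)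

/-- Restriction of an algebra as an algebra map. -/
noncomputable def resAlgHom : A.carrier p →ₐ[X.ring p] A.carrier q :=
  { A.res h with
    commutes' := fun r => by
      rw [IsScalarTower.algebraMap_apply (X.ring p) (X.ring q) (A.carrier q), ha]
      exact A.res_algebraMap h r }

lemma resAlgHom_apply (b : A.carrier p) : resAlgHom A h ha b = A.res h b := rfl

/-- The base change map of restriction. -/
noncomputable def qHom : X.ring q ⊗[X.ring p] A.carrier p →ₐ[X.ring q] A.carrier q :=
  Algebra.TensorProduct.lift (Algebra.ofId _ _) (resAlgHom A h ha) fun _ _ => Commute.all _ _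

lemma qHom_tmul (r : X.ring q) (b : A.carrier p) : qHom A h ha (r ⊗ₜ b) = r • A.res h b := by
  rw [qHom, Algebra.TensorProduct.lift_tmul, Algebra.smul_def]
  rfl

lemma qHom_eq_liftBaseChange :
    ((qHom A h ha).toLinearMap : _ →ₗ[X.ring q] _) = (resAlgHom A h ha).toLinearMap.liftBaseChange (X.ring q) :=
  TensorProduct.AlgebraTensorModule.ext fun r b => by
    show qHom A h ha (r ⊗ₜ b) = _
    rw [qHom_tmul, LinearMap.liftBaseChange_tmul]
    rfl

theorem bijective_qHom (hA : A.IsQcoh) : Function.Bijective (qHom A h ha) := by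
  let f : A.carrier p →ₗ[X.ring p] A.carrier q := (resAlgHom A h ha).toLinearMap
  have hb : IsBaseChange (X.ring q) f := (isBCAlong_iff (M := A.carrier p) (N := A.carrier q) (iT := (inferInstance : IsScalarTower (X.ring p) (X.ring q) (A.carrier q))) ha (A.toMod.res h) f fun _ => rfl).mp (hA p q h)
  have e : ∀ z, qHom A h ha z = hb.equiv z := fun z => by
    induction z using TensorProduct.induction_on with
    | zero => rw [map_zero]; exact (map_zero hb.equiv).symm
    | add a b ha' hb' => rw [map_add, ha', hb']; exact (map_add hb.equiv a b).symm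
    | tmul r b => rw [qHom_tmul]; exact (hb.equiv_tmul r b).symm
  rw [show (qHom A h ha : _ → _) = hb.equiv from funext e]
  exact hb.equiv.bijective

end

/-- Quasi-coherence from bijectivity of all base change maps. -/
theorem isQcoh_of_bijective
    (H : ∀ (p q : X.pt) (h : p ≤ q) [Algebra (X.ring p) (X.ring q)] [Algebra (X.ring p) (A.carrier q)]
      [IsScalarTower (X.ring p) (X.ring q) (A.carrier q)] (ha : algebraMap (X.ring p) (X.ring q) = X.res h),
      Function.Bijective (qHom A h ha)) : A.IsQcoh := by
  intro p q h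
  letI := (X.res h).toAlgebra
  letI : Algebra (X.ring p) (A.carrier q) := ((algebraMap (X.ring q) (A.carrier q)).comp (X.res h)).toAlgebra
  haveI : IsScalarTower (X.ring p) (X.ring q) (A.carrier q) := IsScalarTower.of_algebraMap_eq fun _ => rfl
  let f : A.carrier p →ₗ[X.ring p] A.carrier q := (resAlgHom A h rfl).toLinearMap
  refine (isBCAlong_iff (M := A.carrier p) (N := A.carrier q) (iT := (inferInstance : IsScalarTower (X.ring p) (X.ring q) (A.carrier q))) rfl (A.toMod.res h) f fun _ => rfl).mpr ?_
  refine IsBaseChange.of_equiv (AlgEquiv.ofBijective _ (H p q h rfl)).toLinearEquiv fun b => ?_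
  show qHom A h rfl (1 ⊗ₜ b) = _
  rw [qHom_tmul, one_smul]
  rfl

/-- A retract of a quasi-coherent algebra as modules is quasi-coherent. -/
theorem isQcoh_of_retract (B : Alg X) (hB : B.IsQcoh) (i : ∀ p, A.carrier p →ₗ[X.ring p] B.carrier p)
    (π : ∀ p, B.carrier p →ₗ[X.ring p] A.carrier p) (hπi : ∀ p a, π p (i p a) = a)
    (hi : ∀ (p q : X.pt) (h : p ≤ q) a, B.res h (i p a) = i q (A.res h a))
    (hπ : ∀ (p q : X.pt) (h : p ≤ q) b, A.res h (π p b) = π q (B.res h b)) : A.IsQcoh := by
  refine isQcoh_of_bijective A fun p q h _ _ _ ha => ?_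
  letI : Algebra (X.ring p) (B.carrier q) :=
    ((algebraMap (X.ring q) (B.carrier q)).comp (algebraMap (X.ring p) (X.ring q))).toAlgebra
  haveI : IsScalarTower (X.ring p) (X.ring q) (B.carrier q) := IsScalarTower.of_algebraMap_eq fun _ => rfl
  have hb := bijective_qHom B h ha hB
  let I := (i p).lTensor (X.ring q)
  let P := (π p).lTensor (X.ring q)
  have hPI : ∀ z, P (I z) = z := fun z => by
    induction z using TensorProduct.induction_on with
    | zero => simp only [map_zero]
    | add a b ha' hb' => simp only [map_add, ha', hb']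
    | tmul r a => simp [P, I, hπi]
  have e1 : ∀ z, qHom B h ha (I z) = i q (qHom A h ha z) := fun z => by
    induction z using TensorProduct.induction_on with
    | zero => simp only [map_zero]
    | add a b ha' hb' => simp only [map_add, ha', hb']
    | tmul r a => simp [I, qHom_tmul, hi]
  have e2 : ∀ z, qHom A h ha (P z) = π q (qHom B h ha z) := fun z => by
    induction z using TensorProduct.induction_on with
    | zero => simp only [map_zero]
    | add a b ha' hb' => simp only [map_add, ha', hb']
    | tmul r a => simp [P, qHom_tmul, hπ]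
  refine ⟨fun z z' hz => ?_, fun a => ?_⟩
  · rw [← hPI z, ← hPI z', hb.1 (by rw [e1, e1, hz] : qHom B h ha (I z) = qHom B h ha (I z'))]
  · obtain ⟨z, hz⟩ := hb.2 (i q a)
    exact ⟨P z, by rw [e2, hz, hπi]⟩

lemma isIso_of_bijective {A B : FEt X} (f : A ⟶ B) (hf : ∀ p, Function.Bijective (f.hom.app p)) : IsIso f := by
  let g : B.obj ⟶ A.obj :=
    { app := fun p => (AlgEquiv.ofBijective (f.hom.app p) (hf p)).symm.toAlgHom
      compat := fun {p q} h b => (hf q).1 (by
        obtain ⟨a, rfl⟩ := (hf p).2 b
        show f.hom.app q (A.obj.res h ((AlgEquiv.ofBijective (f.hom.app p) (hf p)).symm _)) =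
          f.hom.app q ((AlgEquiv.ofBijective (f.hom.app q) (hf q)).symm _)
        rw [show f.hom.app p a = AlgEquiv.ofBijective (f.hom.app p) (hf p) a from rfl, AlgEquiv.symm_apply_apply]
        show _ = AlgEquiv.ofBijective (f.hom.app q) (hf q) ((AlgEquiv.ofBijective (f.hom.app q) (hf q)).symm _)
        rw [AlgEquiv.apply_symm_apply]
        exact (f.hom.compat h a).symm) }
  refine ⟨⟨ObjectProperty.homMk g, ?_, ?_⟩⟩
  · refine ObjectProperty.hom_ext _ (Alg.hom_ext _ _ fun p => AlgHom.ext fun a => ?_)
    exact (AlgEquiv.ofBijective (f.hom.app p) (hf p)).symm_apply_apply a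
  · refine ObjectProperty.hom_ext _ (Alg.hom_ext _ _ fun p => AlgHom.ext fun a => ?_)
    exact (AlgEquiv.ofBijective (f.hom.app p) (hf p)).apply_symm_apply a

lemma mono_of_injective {A B : FEt X} (f : A ⟶ B) (hf : ∀ p, Function.Injective (f.hom.app p)) : Mono f :=
  ⟨fun g g' h => ObjectProperty.hom_ext _ (Alg.hom_ext _ _ fun p => AlgHom.ext fun a =>
    hf p (AlgHom.congr_fun (congrFun (congrArg Alg.Hom.app (congrArg InducedCategory.Hom.hom h)) p) a))⟩

lemma epi_of_surjective {A B : FEt X} (f : A ⟶ B) (hf : ∀ p, Function.Surjective (f.hom.app p)) : Epi f :=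
  ⟨fun g g' h => ObjectProperty.hom_ext _ (Alg.hom_ext _ _ fun p => AlgHom.ext fun b => by
    obtain ⟨a, rfl⟩ := hf p b
    exact AlgHom.congr_fun (congrFun (congrArg Alg.Hom.app (congrArg InducedCategory.Hom.hom h)) p) a)⟩

end Groth.Agent.SchFinLib
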